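import Mathlib

/-!
Generic counting and conjugation lemmas for finite groups.
-/

set_option autoImplicit false

namespace Cfsg.Agent.Lib.ReeTori

variable {G : Type*} [Group G] [Finite G]

/-- The conjugates of a trivial-intersection set are counted by the index of its normaliser. -/
theorem card_conjSet (X : Set G) (N : Subgroup G) (hNX : ∀ k ∈ N, ∀ x ∈ X, k * x * k⁻¹ ∈ X)
    (hTI : ∀ g : G, ∀ x ∈ X, g * x * g⁻¹ ∈ X → g ∈ N) :
    Nat.card {y : G | ∃ g, ∃ x ∈ X, g * x * g⁻¹ = y} * Nat.card N = Nat.card G * Nat.card X := by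
  classical
  rw [← Nat.card_prod, ← Nat.card_prod]
  let P := {y : G | ∃ g, ∃ x ∈ X, g * x * g⁻¹ = y}
  choose gy xy hxy hy using fun y : P => y.2
  refine Nat.card_congr (Equiv.ofBijective (fun p : P × N => (gy p.1 * p.2.1,
    (⟨p.2.1⁻¹ * xy p.1 * p.2.1, by simpa using hNX _ (inv_mem p.2.2) _ (hxy p.1)⟩ : X))) ⟨?_, ?_⟩)
  · rintro ⟨y, k⟩ ⟨y', k'⟩ h
    simp only [Prod.mk.injEq, Subtype.mk.injEq] at h
    have e : y = y' := by
      apply Subtype.ext
      rw [← hy y, ← hy y']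
      calc gy y * xy y * (gy y)⁻¹ = (gy y * k.1) * (k.1⁻¹ * xy y * k.1) * (gy y * k.1)⁻¹ := by group
        _ = (gy y' * k'.1) * (k'.1⁻¹ * xy y' * k'.1) * (gy y' * k'.1)⁻¹ := by rw [h.1, h.2]
        _ = gy y' * xy y' * (gy y')⁻¹ := by group
    subst e
    rw [mul_left_cancel (a := gy y) h.1 |> Subtype.ext]
  · rintro ⟨g, x⟩
    let y : P := ⟨g * x.1 * g⁻¹, g, x.1, x.2, rfl⟩
    have hk : ((gy y)⁻¹ * g) * x.1 * ((gy y)⁻¹ * g)⁻¹ = xy y := by
      calc ((gy y)⁻¹ * g) * x.1 * ((gy y)⁻¹ * g)⁻¹ = (gy y)⁻¹ * (g * x.1 * g⁻¹) * gy y := by group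
        _ = (gy y)⁻¹ * (gy y * xy y * (gy y)⁻¹) * gy y := by rw [hy y]
        _ = xy y := by group
    refine ⟨(y, ⟨(gy y)⁻¹ * g, hTI _ _ x.2 (hk ▸ hxy y)⟩), Prod.ext (by simp) (Subtype.ext ?_)⟩
    show ((gy y)⁻¹ * g)⁻¹ * xy y * ((gy y)⁻¹ * g) = x.1
    rw [← hk]; group

/-- A `p`-subgroup is conjugate into every subgroup of index prime to `p`. -/
theorem conj_into {p : ℕ} [Fact p.Prime] {P A : Subgroup G} (hP : IsPGroup p P) (hA : ¬ p ∣ A.index) :
    ∃ k : G, ∀ s ∈ P, k⁻¹ * s * k ∈ A := by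
  obtain ⟨c, hc⟩ := hP.nonempty_fixed_point_of_prime_not_dvd_card (G ⧸ A) (by rwa [← Subgroup.index_eq_card])
  obtain ⟨k, rfl⟩ := QuotientGroup.mk_surjective c
  refine ⟨k, fun s hs => ?_⟩
  have h : ((s * k : G) : G ⧸ A) = (k : G ⧸ A) := hc ⟨s, hs⟩
  have := QuotientGroup.eq.1 h.symm
  rwa [← mul_assoc] at this

/-- An element of prime order is conjugate into every subgroup of index prime to it. -/
theorem conj_elem_into {p : ℕ} [Fact p.Prime] {s : G} (hs : orderOf s = p) {A : Subgroup G}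
    (hA : ¬ p ∣ A.index) : ∃ k : G, k⁻¹ * s * k ∈ A := by
  obtain ⟨k, hk⟩ := conj_into (P := Subgroup.zpowers s)
    (IsPGroup.of_card (n := 1) (by rw [Nat.card_zpowers, hs, pow_one])) hA
  exact ⟨k, hk s (Subgroup.mem_zpowers s)⟩

/-- Subgroups of equal order in a cyclic group coincide. -/
theorem sub_eq_of_cyclic {A A₁ A₂ : Subgroup G} [IsCyclic A] (h₁ : A₁ ≤ A) (h₂ : A₂ ≤ A)
    (h : Nat.card A₁ = Nat.card A₂) : A₁ = A₂ := by
  classical
  haveI : Fintype A := Fintype.ofFinite _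
  have key : ∀ B : Subgroup G, B ≤ A → Nat.card B = Nat.card A₁ →
      ∀ x : A, x.1 ∈ B ↔ x ^ Nat.card A₁ = 1 := by
    intro B hB hcard
    have hsub : Finset.univ.filter (fun x : A => x.1 ∈ B) ⊆
        Finset.univ.filter (fun x : A => x ^ Nat.card A₁ = 1) := by
      intro x hx
      simp only [Finset.mem_filter, Finset.mem_univ, true_and] at hx ⊢
      exact Subtype.ext (by
        rw [← hcard, SubgroupClass.coe_pow]
        exact orderOf_dvd_iff_pow_eq_one.1 (Subgroup.orderOf_dvd_natCard B hx))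
    have heq := Finset.eq_of_subset_of_card_le hsub (by
      refine (IsCyclic.card_pow_eq_one_le Nat.card_pos).trans (le_of_eq ?_)
      rw [← hcard, ← Fintype.card_subtype, ← Nat.card_eq_fintype_card]
      exact Nat.card_congr ⟨fun x => ⟨⟨x.1, hB x.2⟩, x.2⟩, fun x => ⟨x.1.1, x.2⟩, fun _ => rfl, fun _ => rfl⟩)
    intro x
    have := congrArg (fun s : Finset A => x ∈ s) heq
    simpa using this
  ext g
  constructor
  · intro hg
    exact (key A₂ h₂ h.symm ⟨g, h₁ hg⟩).2 ((key A₁ h₁ rfl _).1 hg)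
  · intro hg
    exact (key A₁ h₁ rfl ⟨g, h₂ hg⟩).2 ((key A₂ h₂ h.symm _).1 hg)

/-- The normaliser of a cyclic subgroup normalises its subgroups. -/
theorem normalizer_le_of_cyclic {A A₀ : Subgroup G} [IsCyclic A] (h : A₀ ≤ A) :
    Subgroup.normalizer (A : Set G) ≤ Subgroup.normalizer (A₀ : Set G) := by
  intro g hg
  have key : ∀ k ∈ Subgroup.normalizer (A : Set G), ∀ x ∈ A₀, k * x * k⁻¹ ∈ A₀ := by
    intro k hk x hx
    have e : A₀.map (MulAut.conj k).toMonoidHom = A₀ := sub_eq_of_cyclic (A := A)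
      (by rintro _ ⟨y, hy, rfl⟩; exact (Subgroup.mem_normalizer_iff.1 hk y).1 (h hy)) h
      (Subgroup.card_map_of_injective (MulAut.conj k).injective)
    exact e ▸ ⟨x, hx, rfl⟩
  rw [Subgroup.mem_normalizer_iff]
  intro x
  refine ⟨key g hg x, fun hx => ?_⟩
  have := key g⁻¹ (inv_mem hg) _ hx
  simpa [mul_assoc] using this

theorem orderOf_conj_eq (k x : G) : orderOf (k * x * k⁻¹) = orderOf x :=
  orderOf_injective (MulAut.conj k).toMonoidHom (MulAut.conj k).injective x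

omit [Finite G] in
theorem mem_cent {x c : G} : c ∈ Subgroup.centralizer ({x} : Set G) ↔ c * x = x * c :=
  Subgroup.mem_centralizer_singleton_iff

omit [Finite G] in
theorem cent_conj {k x c : G} : c ∈ Subgroup.centralizer ({k * x * k⁻¹} : Set G) ↔
    k⁻¹ * c * k ∈ Subgroup.centralizer ({x} : Set G) := by
  rw [mem_cent, mem_cent]
  constructor
  · intro h
    calc k⁻¹ * c * k * x = k⁻¹ * (c * (k * x * k⁻¹)) * k := by group
      _ = k⁻¹ * (k * x * k⁻¹ * c) * k := by rw [h]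
      _ = x * (k⁻¹ * c * k) := by group
  · intro h
    calc c * (k * x * k⁻¹) = k * (k⁻¹ * c * k * x) * k⁻¹ := by group
      _ = k * (x * (k⁻¹ * c * k)) * k⁻¹ := by rw [h]
      _ = k * x * k⁻¹ * c := by group

end Cfsg.Agent.Lib.ReeTori
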