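import Cfsg.Agent.Lib.PSLTwo.ClassSizes
import Cfsg.Agent.Lib.PSLTwo.Pairs
import Cfsg.Agent.Lib.PSLTwo.Tools

/-!
The two kinds of tori of `PSL₂(q)` for `q` a power of 3 with `q ≡ 3 (mod 8)`.
-/

set_option autoImplicit false

open Matrix MulAction OnePoint
open scoped MatrixGroups

namespace Cfsg.Agent.Lib.ReeTori

open Cfsg.Agent.Lib.PSLTwo

variable {F : Type*} [Field F] [Fintype F] [CharP F 3]

local notation "L" => Matrix.ProjectiveSpecialLinearGroup (Fin 2) F

/-- What is used of `PSL₂(q)`. -/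
structure PSLTori (q : ℕ) (G : Type*) [Group G] (T S : Subgroup G) : Prop where
  cycT : IsCyclic T
  cardT : 2 * Nat.card T = q + 1
  cycS : IsCyclic S
  cardS : 2 * Nat.card S = q - 1
  centT : ∀ x ∈ T, x * x ≠ 1 → Subgroup.centralizer {x} = T
  centInv : ∀ x ∈ T, x ≠ 1 → x * x = 1 → Nat.card (Subgroup.centralizer ({x} : Set G)) = q + 1 ∧
    ∀ g ∈ Subgroup.centralizer ({x} : Set G), ∀ y ∈ T, g * y * g⁻¹ ∈ T
  cover : ∀ x : G, x ^ 3 = 1 ∨ (∃ g, g * x * g⁻¹ ∈ T) ∨ ∃ g, g * x * g⁻¹ ∈ S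

theorem exists_pslTori (h8 : Fintype.card F % 8 = 3) :
    ∃ T S : Subgroup L, PSLTori (Fintype.card F) L T S := by
  classical
  haveI : Fact (Nat.Prime 3) := ⟨Nat.prime_three⟩
  have hodd : Odd (Fintype.card F) := Nat.odd_iff.2 (by omega)
  obtain ⟨E, _, _, _, hE⟩ := exists_quadExt F
  have P := poles (E := E) (p := 3) (F := F) hE
  obtain ⟨x₀, hx₀⟩ := exists_nonrat hE (F := F)
  obtain ⟨T₀, hT₀, hT₀'⟩ := isTorusSub_nonsplit hE hx₀
  obtain ⟨a₀, b₀, hab⟩ : ∃ a b : OnePoint F, a ≠ b := ⟨_, _, OnePoint.infty_ne_coe (0 : F)⟩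
  set S₀ := stabilizer PGL(2, F) (inc E a₀) ⊓ stabilizer PGL(2, F) (inc E b₀) with hS₀
  have hS₀' := isTorusSub_split hE hab
  have hrange : ∀ g : PGL(2, F), g ∈ Lsub F → ∃ g' : L, toP F g' = g := fun g hg => by
    rw [← MonoidHom.mem_range]
    exact (Lsub_eq_toPGL (F := F)) ▸ hg
  have hcard : ∀ A : Subgroup PGL(2, F), Nat.card (A.comap (toP F)) = Nat.card (A ⊓ Lsub F : Subgroup PGL(2, F)) := by
    intro A
    rw [← Subgroup.card_map_of_injective (f := toP F) toP_injective, Subgroup.map_comap_eq, inf_comm]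
    congr 2
    rw [Lsub_eq_toPGL]
  have hcyc : ∀ {A : Subgroup PGL(2, F)}, IsCyclic A → IsCyclic (A.comap (toP F)) := fun {A} h => by
    haveI := h
    exact isCyclic_of_injective (((toP F).comp (A.comap (toP F)).subtype).codRestrict A fun g => g.2)
      fun g g' e => Subtype.ext (toP_injective (congrArg Subtype.val e))
  have hcentmap : ∀ x : L, Subgroup.centralizer ({x} : Set L) =
      (Subgroup.centralizer ({toP F x} : Set PGL(2, F))).comap (toP F) := fun x => by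
    ext g
    rw [Subgroup.mem_comap, Subgroup.mem_centralizer_singleton_iff, Subgroup.mem_centralizer_singleton_iff,
      ← map_mul, ← map_mul, toP_injective.eq_iff]
  refine ⟨T₀.comap (toP F), S₀.comap (toP F), hcyc hT₀'.cyc, ?_, hcyc hS₀'.cyc, ?_, ?_, ?_, ?_⟩
  · rw [hcard, inf_torus_card hT₀' hodd]
  · rw [hcard, inf_torus_card hS₀' hodd]
  · intro x hx hxx
    have h1 : toP F x ≠ 1 := fun e => hxx (by
      rw [toP_injective (e.trans (map_one _).symm), one_mul])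
    have h2 : toP F x * toP F x ≠ 1 := fun e => hxx (toP_injective (by rw [map_mul, e, map_one]))
    rw [hcentmap, (hT₀'.cent _ hx h1).1 h2]
  · intro x hx hx1 hxx
    have h1 : toP F x ≠ 1 := fun e => hx1 (toP_injective (e.trans (map_one _).symm))
    have h2 : toP F x * toP F x = 1 := by rw [← map_mul, hxx, map_one]
    obtain ⟨hle, hc⟩ := (hT₀'.cent _ hx h1).2 h2
    refine ⟨?_, fun g hg y hy => ?_⟩
    · obtain ⟨t, htT, htL⟩ := hT₀'.notL hodd
      have := card_inf_Lsub hodd (T := Subgroup.centralizer {toP F x}) ⟨t, hle htT, htL⟩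
      rw [hcentmap, hcard]
      omega
    · rw [hcentmap, Subgroup.mem_comap] at hg
      rw [Subgroup.mem_comap, map_mul, map_mul, map_inv]
      rw [Subgroup.mem_comap] at hy
      by_cases hgT : toP F g ∈ T₀
      · exact mul_mem (mul_mem hgT hy) (inv_mem hgT)
      · obtain ⟨hgg, hinv⟩ := hT₀'.swap _ hx h1 _ hg hgT
        rw [inv_eq_of_mul_eq_one_right hgg, hinv _ hy]
        exact inv_mem hy
  · intro x
    by_cases h3 : x ^ 3 = 1
    · exact Or.inl h3
    refine Or.inr ?_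
    set X := toP F x with hXdef
    have hX3 : X ^ 3 ≠ 1 := fun e => h3 (toP_injective (by rw [map_pow, e, map_one]))
    have hX1 : X ≠ 1 := fun e => hX3 (by rw [e, one_pow])
    obtain ⟨y, hy⟩ := P.exists_fix X
    obtain ⟨z, hz, hzy⟩ : ∃ z, X • z = z ∧ z ≠ y := by
      by_contra hno
      push Not at hno
      exact hX3 ((P.pElem X y hX1 hy).mpr hno)
    have key : ∀ (A : Subgroup PGL(2, F)) (t g : PGL(2, F)), t ∈ A → t ∉ Lsub F → g * X * g⁻¹ ∈ A →
        ∃ g' : L, g' * x * g'⁻¹ ∈ A.comap (toP F) := by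
      intro A t g ht htL hgX
      obtain ⟨g₁, hg₁, hg₁X⟩ : ∃ g₁, g₁ ∈ Lsub F ∧ g₁ * X * g₁⁻¹ ∈ A := by
        by_cases hgL : g ∈ Lsub F
        · exact ⟨g, hgL, hgX⟩
        · refine ⟨t * g, mul_mem_Lsub htL hgL, ?_⟩
          rw [show t * g * X * (t * g)⁻¹ = t * (g * X * g⁻¹) * t⁻¹ by group]
          exact mul_mem (mul_mem ht hgX) (inv_mem ht)
      obtain ⟨g', rfl⟩ := hrange g₁ hg₁
      exact ⟨g', by rw [Subgroup.mem_comap, map_mul, map_mul, map_inv]; exact hg₁X⟩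
    have nonsplit : ∀ w : OnePoint E, ¬ IsRat F w → X • w = w → ∃ g' : L, g' * x * g'⁻¹ ∈ T₀.comap (toP F) := by
      intro w hw hfix
      obtain ⟨g, hg⟩ := transitive_nonrat hE hw hx₀
      obtain ⟨t, ht, htL⟩ := hT₀'.notL hodd
      refine key T₀ t g ht htL ?_
      rw [← hT₀, mem_stabilizer_iff, mul_smul, mul_smul, ← hg, inv_smul_smul, hfix]
    by_cases hyr : IsRat F y
    · by_cases hzr : IsRat F z
      · obtain ⟨a, rfl⟩ := hyr
        obtain ⟨b, rfl⟩ := hzr
        obtain ⟨g, hg1, hg2⟩ := exists_pgl_map (fun e => hzy (congrArg (inc E) e).symm) hab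
        obtain ⟨t, ht, htL⟩ := hS₀'.notL hodd
        refine Or.inr (key S₀ t g ht htL ?_)
        rw [hS₀, Subgroup.mem_inf, mem_stabilizer_iff, mem_stabilizer_iff, mul_smul, mul_smul, mul_smul, mul_smul,
          ← hg1, ← hg2, inc_smul, inc_smul, inv_smul_smul, inv_smul_smul, hy, hz]
        exact ⟨rfl, rfl⟩
      · exact Or.inl (nonsplit z hzr hz)
    · exact Or.inl (nonsplit y hyr hy)

end Cfsg.Agent.Lib.ReeTori
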