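import Cfsg.Agent.Lib.ReeTori.Basic
import Cfsg.Agent.Lib.ReeTori.PSL

/-!
The data of a group like the small Ree groups and the count of its elements of order divisible by three.
-/

set_option autoImplicit false

namespace Cfsg.Agent.Lib.ReeTori

/-- What is used of the group. -/
structure Data (G L : Type*) [Group G] [Group L] where
  q : ℕ
  a : ℕ
  b : ℕ
  B : Subgroup G
  U : Subgroup G
  H : Subgroup G
  z : G
  w : G
  T : Subgroup L
  S : Subgroup L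
  e : Subgroup.centralizer ({z} : Set G) ≃* Multiplicative (ZMod 2) × L
  he : e ⟨z, Subgroup.mem_centralizer_singleton_iff.2 rfl⟩ = (Multiplicative.ofAdd 1, 1)
  hq27 : 27 ≤ q
  hq8 : q % 8 = 3
  hq3 : ∃ k, q = 3 ^ k
  hab : a * b + q = q * q + 1
  hsum : a + b = 2 * (q + 1)
  hcop : Nat.Coprime a b
  ha : 7 ≤ a
  hb : 7 ≤ b
  psl : PSLTori q L T S
  cardL : 2 * Nat.card L = q * (q ^ 2 - 1)
  hz : z * z = 1
  hz1 : z ≠ 1
  cardG : Nat.card G = q ^ 3 * (q - 1) * (q ^ 3 + 1)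
  cardU : Nat.card U = q ^ 3
  UB : U ≤ B
  HB : H ≤ B
  cardH : Nat.card H = q - 1
  cycH : IsCyclic H
  zH : z ∈ H
  hB : ∀ g ∈ B, ∃ u ∈ U, ∃ h ∈ H, g = u * h
  UN : ∀ g ∈ B, ∀ u ∈ U, g * u * g⁻¹ ∈ U
  tiU : ∀ g, ∀ u ∈ U, u ≠ 1 → g * u * g⁻¹ ∈ U → g ∈ B
  fpf : ∀ h ∈ H, h * h ≠ 1 → ∀ u ∈ U, h * u = u * h → u = 1
  cardCU : Nat.card {u : G // u ∈ U ∧ u * z = z * u} = q
  fix2 : ∀ h ∈ H, h * h ≠ 1 → ∀ g, g * h * g⁻¹ ∈ H → g ∈ H ∨ w⁻¹ * g ∈ H
  hw : w ∈ Subgroup.normalizer (H : Set G)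
  hwH : w ∉ H
  invol : ∀ v : G, v * v = 1 → v ≠ 1 → ∃ k, k * z * k⁻¹ = v
  syl2 : ∀ P : Sylow 2 G, Nat.card P = 8 ∧ ∀ x ∈ P, x * x = 1
  nine : ∀ u ∈ U, u ^ 9 = 1
  hasNine : ∃ u ∈ U, orderOf u = 9
  free : ∀ p : ℕ, p.Prime → p ∣ a * b → ∀ x : G, orderOf x = p →
    (∀ c ∈ Subgroup.centralizer ({x} : Set G), (orderOf c).Coprime (q - 1)) →
    IsCyclic (Subgroup.centralizer ({x} : Set G)) ∧
      ∃ n, n ∣ 6 ∧ Nat.card (Subgroup.normalizer ((Subgroup.centralizer ({x} : Set G)) : Set G)) =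
        n * Nat.card (Subgroup.centralizer ({x} : Set G))

variable {G L : Type*} [Group G] [Finite G] [Group L]

omit [Finite G] in
theorem card_conj_image (U : Subgroup G) (x : G) :
    Nat.card {y : G | ∃ u ∈ U, u * x * u⁻¹ = y} * Nat.card {u : G // u ∈ U ∧ u * x = x * u} = Nat.card U := by
  classical
  let C : Subgroup U := (Subgroup.centralizer ({x} : Set G)).subgroupOf U
  have hC : Nat.card C = Nat.card {u : G // u ∈ U ∧ u * x = x * u} :=
    Nat.card_congr ⟨fun u => ⟨u.1.1, u.1.2, Subgroup.mem_centralizer_singleton_iff.1 u.2⟩,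
      fun u => ⟨⟨u.1, u.2.1⟩, Subgroup.mem_centralizer_singleton_iff.2 u.2.2⟩, fun _ => rfl, fun _ => rfl⟩
  rw [← hC, Subgroup.card_eq_card_quotient_mul_card_subgroup C]
  congr 1
  let f : U ⧸ C → {y : G | ∃ u ∈ U, u * x * u⁻¹ = y} := Quotient.lift
    (fun u => ⟨u.1 * x * u.1⁻¹, u.1, u.2, rfl⟩) (fun u v h => Subtype.ext (by
      have h' : u⁻¹ * v ∈ C := QuotientGroup.leftRel_apply.1 h
      have h'' : u.1⁻¹ * v.1 * x = x * (u.1⁻¹ * v.1) := Subgroup.mem_centralizer_singleton_iff.1 h'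
      calc u.1 * x * u.1⁻¹ = u.1 * (x * (u.1⁻¹ * v.1)) * v.1⁻¹ := by group
        _ = u.1 * (u.1⁻¹ * v.1 * x) * v.1⁻¹ := by rw [h'']
        _ = v.1 * x * v.1⁻¹ := by group))
  refine (Nat.card_congr (Equiv.ofBijective f ⟨?_, ?_⟩)).symm
  · intro c d
    induction c using QuotientGroup.induction_on
    induction d using QuotientGroup.induction_on
    rename_i u v
    intro h
    have h' : u.1 * x * u.1⁻¹ = v.1 * x * v.1⁻¹ := congrArg Subtype.val h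
    refine QuotientGroup.eq.2 (Subgroup.mem_centralizer_singleton_iff.2 ?_)
    show u.1⁻¹ * v.1 * x = x * (u.1⁻¹ * v.1)
    calc u.1⁻¹ * v.1 * x = u.1⁻¹ * (v.1 * x * v.1⁻¹) * v.1 := by group
      _ = u.1⁻¹ * (u.1 * x * u.1⁻¹) * v.1 := by rw [h']
      _ = x * (u.1⁻¹ * v.1) := by group
  · rintro ⟨_, u, hu, rfl⟩
    exact ⟨QuotientGroup.mk ⟨u, hu⟩, rfl⟩

namespace Data

variable (c : Data G L)

omit [Finite G] in
theorem q_facts : 2 ≤ c.q ∧ Odd c.q ∧ 4 ∣ c.q + 1 ∧ (c.q - 1) % 4 = 2 ∧ c.q % 3 = 0 ∧ 1 ≤ c.q - 1 := by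
  have h1 := c.hq27
  have h2 := c.hq8
  obtain ⟨k, hk⟩ := c.hq3
  have h3 : 3 ∣ c.q := by
    rw [hk]
    exact dvd_pow_self 3 (by rintro rfl; rw [pow_zero] at hk; omega)
  exact ⟨by omega, Nat.odd_iff.2 (by omega), by omega, by omega, Nat.mod_eq_zero_of_dvd h3, by omega⟩

omit [Finite G] in
theorem cop_q3 {n : ℕ} (h : n ∣ c.q ^ 3) {m : ℕ} (hm : ¬ 3 ∣ m) : Nat.Coprime n m := by
  obtain ⟨k, hk⟩ := c.hq3
  refine Nat.Coprime.coprime_dvd_left h ?_
  rw [hk, ← pow_mul]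
  exact Nat.Coprime.pow_left _ ((Nat.prime_three.coprime_iff_not_dvd).2 hm)

omit [Finite G] in
theorem q1_not_three : ¬ 3 ∣ c.q - 1 := by
  have := c.q_facts
  omega

theorem UH_bot {g : G} (hu : g ∈ c.U) (hh : g ∈ c.H) : g = 1 := by
  rw [← orderOf_eq_one_iff]
  have h1 : orderOf g ∣ c.q ^ 3 := c.cardU ▸ Subgroup.orderOf_dvd_natCard _ hu
  have h2 : orderOf g ∣ c.q - 1 := c.cardH ▸ Subgroup.orderOf_dvd_natCard _ hh
  exact Nat.eq_one_of_dvd_coprimes (c.cop_q3 dvd_rfl c.q1_not_three) h1 h2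

theorem uh_inj {u u' h h' : G} (hu : u ∈ c.U) (hu' : u' ∈ c.U) (hh : h ∈ c.H) (hh' : h' ∈ c.H)
    (e : u * h = u' * h') : u = u' ∧ h = h' := by
  have e' : u'⁻¹ * u = h' * h⁻¹ := by
    calc u'⁻¹ * u = u'⁻¹ * (u * h) * h⁻¹ := by group
      _ = u'⁻¹ * (u' * h') * h⁻¹ := by rw [e]
      _ = h' * h⁻¹ := by group
  have h1 := c.UH_bot (mul_mem (inv_mem hu') hu) (by rw [e']; exact mul_mem hh' (inv_mem hh))
  have h2 : u = u' := (inv_mul_eq_one.1 h1).symm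
  exact ⟨h2, mul_left_cancel (h2 ▸ e)⟩

theorem card_B : Nat.card c.B = c.q ^ 3 * (c.q - 1) := by
  rw [← c.cardU, ← c.cardH, ← Nat.card_prod]
  refine (Nat.card_congr (Equiv.ofBijective
    (fun p : c.U × c.H => (⟨p.1.1 * p.2.1, mul_mem (c.UB p.1.2) (c.HB p.2.2)⟩ : c.B)) ⟨?_, ?_⟩)).symm
  · intro p p' e
    obtain ⟨h1, h2⟩ := c.uh_inj p.1.2 p'.1.2 p.2.2 p'.2.2 (congrArg Subtype.val e)
    exact Prod.ext (Subtype.ext h1) (Subtype.ext h2)
  · rintro ⟨g, hg⟩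
    obtain ⟨u, hu, h, hh, rfl⟩ := c.hB g hg
    exact ⟨(⟨u, hu⟩, ⟨h, hh⟩), rfl⟩

omit [Finite G] in
theorem pow_form {u h : G} (hu : u ∈ c.U) (hh : h ∈ c.H) (n : ℕ) : ∃ u' ∈ c.U, (u * h) ^ n = u' * h ^ n := by
  induction n with
  | zero => exact ⟨1, one_mem _, by simp⟩
  | succ n ih =>
    obtain ⟨u', hu', e⟩ := ih
    refine ⟨u' * (h ^ n * u * (h ^ n)⁻¹), mul_mem hu' (c.UN _ (c.HB (pow_mem hh n)) _ hu), ?_⟩
    rw [pow_succ, e, pow_succ]; group

theorem three_mem {g : G} (hg : g ∈ c.B) {j : ℕ} (hj : g ^ 3 ^ j = 1) : g ∈ c.U := by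
  obtain ⟨u, hu, h, hh, rfl⟩ := c.hB g hg
  obtain ⟨u', hu', e⟩ := c.pow_form hu hh (3 ^ j)
  rw [hj] at e
  have h1 := (c.uh_inj (one_mem c.U) hu' (one_mem c.H) (pow_mem hh (3 ^ j)) (by rw [one_mul, ← e])).2
  have : h = 1 := by
    rw [← orderOf_eq_one_iff]
    have a1 : orderOf h ∣ 3 ^ j := orderOf_dvd_of_pow_eq_one h1.symm
    have a2 : orderOf h ∣ c.q - 1 := c.cardH ▸ Subgroup.orderOf_dvd_natCard _ hh
    exact Nat.eq_one_of_dvd_coprimes
      (Nat.Coprime.pow_left _ ((Nat.prime_three.coprime_iff_not_dvd).2 c.q1_not_three)) a1 a2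
  rwa [this, mul_one]

/-- elements of the torus of order two -/
theorem H_sq {h : G} (hh : h ∈ c.H) (h2 : h * h = 1) : h = 1 ∨ h = c.z := by
  classical
  by_contra hne
  push Not at hne
  haveI := c.cycH
  haveI : Fintype c.H := Fintype.ofFinite _
  have hle := IsCyclic.card_pow_eq_one_le (α := c.H) two_pos
  have hsub : ({1, ⟨c.z, c.zH⟩, ⟨h, hh⟩} : Finset c.H) ⊆ Finset.univ.filter (fun a : c.H => a ^ 2 = 1) := by
    intro a ha
    simp only [Finset.mem_insert, Finset.mem_singleton] at ha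
    simp only [Finset.mem_filter, Finset.mem_univ, true_and]
    rcases ha with rfl | rfl | rfl
    · exact one_pow _
    · exact Subtype.ext (by simp [pow_two, c.hz])
    · exact Subtype.ext (by simp [pow_two, h2])
  have h3 : ({1, ⟨c.z, c.zH⟩, ⟨h, hh⟩} : Finset c.H).card = 3 := by
    have a1 : (1 : c.H) ≠ ⟨c.z, c.zH⟩ := fun e => c.hz1 (congrArg Subtype.val e).symm
    have a2 : (1 : c.H) ≠ ⟨h, hh⟩ := fun e => hne.1 (congrArg Subtype.val e).symm
    have a3 : (⟨c.z, c.zH⟩ : c.H) ≠ ⟨h, hh⟩ := fun e => hne.2 (congrArg Subtype.val e).symm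
    simp [a1, a2, a3]
  have := (Finset.card_le_card hsub).trans hle
  omega

/-- elements of `B` of order prime to three -/
theorem B_class {g : G} (hg : g ∈ c.B) (h3 : ¬ 3 ∣ orderOf g) :
    ∃ v ∈ c.U, ∃ h ∈ c.H, g = v * h * v⁻¹ := by
  classical
  obtain ⟨u, hu, h, hh, rfl⟩ := c.hB g hg
  obtain ⟨k, hk⟩ := c.hq3
  by_cases h2 : h * h = 1
  · rcases c.H_sq hh h2 with rfl | rfl
    · rw [mul_one] at h3 ⊢
      have hd : orderOf u ∣ 3 ^ (k * 3) := by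
        rw [pow_mul, ← hk, ← c.cardU]; exact Subgroup.orderOf_dvd_natCard _ hu
      obtain ⟨j, -, hj⟩ := (Nat.dvd_prime_pow Nat.prime_three).1 hd
      cases j with
      | zero => exact ⟨1, one_mem _, 1, one_mem _, by rw [orderOf_eq_one_iff.1 hj]; simp⟩
      | succ j => exact absurd (hj ▸ dvd_pow_self 3 (Nat.succ_ne_zero j)) h3
    · -- an involution
      have hzU : c.z * u * c.z ∈ c.U := by
        have := c.UN c.z (c.HB c.zH) u hu
        rwa [inv_eq_of_mul_eq_one_right c.hz] at this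
      have hsq : (u * c.z) ^ 2 = u * (c.z * u * c.z) := by simp only [pow_two, mul_assoc]
      have h21 : (u * c.z) ^ 2 = 1 := by
        rw [← orderOf_eq_one_iff]
        have a1 : orderOf ((u * c.z) ^ 2) ∣ c.q ^ 3 :=
          c.cardU ▸ Subgroup.orderOf_dvd_natCard _ (hsq ▸ mul_mem hu hzU)
        exact Nat.eq_one_of_dvd_coprimes (c.cop_q3 dvd_rfl h3) a1 (orderOf_pow_dvd 2)
      have hinv : c.z * u * c.z = u⁻¹ := eq_inv_of_mul_eq_one_right (hsq ▸ h21)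
      have hodd : Odd (orderOf u) := by
        refine Odd.of_dvd_nat ?_ (c.cardU ▸ Subgroup.orderOf_dvd_natCard c.U hu)
        rw [hk]; exact ((by decide : Odd 3).pow).pow
      obtain ⟨i, hi⟩ := hodd
      set v := u ^ (i + 1) with hv
      have hvv : v * v = u := by
        rw [hv, ← pow_add, show i + 1 + (i + 1) = (2 * i + 1) + 1 by ring, pow_succ, ← hi, pow_orderOf_eq_one,
          one_mul]
      have hzv : c.z * v * c.z = v⁻¹ := by
        have : ∀ n : ℕ, c.z * u ^ n * c.z = (u ^ n)⁻¹ := by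
          intro n
          induction n with
          | zero => simpa using c.hz
          | succ n ihn =>
            calc c.z * u ^ (n + 1) * c.z = c.z * u ^ n * (c.z * c.z) * u * c.z := by
                  rw [c.hz, mul_one, pow_succ]; simp only [mul_assoc]
              _ = (c.z * u ^ n * c.z) * (c.z * u * c.z) := by simp only [mul_assoc]
              _ = (u ^ n)⁻¹ * u⁻¹ := by rw [ihn, hinv]
              _ = (u ^ (n + 1))⁻¹ := by rw [pow_succ', mul_inv_rev]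
        exact this _
      refine ⟨v, pow_mem hu _, c.z, hh, ?_⟩
      rw [← hzv]
      calc u * c.z = v * (v * c.z) := by rw [← hvv, mul_assoc]
        _ = v * (c.z * c.z) * v * c.z := by rw [c.hz, mul_one, mul_assoc]
        _ = v * c.z * (c.z * v * c.z) := by simp only [mul_assoc]
  · -- a regular coset
    let f : c.U → c.U := fun v => ⟨v.1 * (h * v.1⁻¹ * h⁻¹), mul_mem v.2 (c.UN h (c.HB hh) _ (inv_mem v.2))⟩
    have hf : Function.Injective f := by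
      intro v v' e
      have e' : v.1 * (h * v.1⁻¹ * h⁻¹) = v'.1 * (h * v'.1⁻¹ * h⁻¹) := congrArg Subtype.val e
      have hcomm : h * (v'.1⁻¹ * v.1) = (v'.1⁻¹ * v.1) * h := by
        calc h * (v'.1⁻¹ * v.1) = v'.1⁻¹ * (v'.1 * (h * v'.1⁻¹ * h⁻¹)) * h * v.1 := by group
          _ = v'.1⁻¹ * (v.1 * (h * v.1⁻¹ * h⁻¹)) * h * v.1 := by rw [e']
          _ = (v'.1⁻¹ * v.1) * h := by group
      exact Subtype.ext (inv_mul_eq_one.1 (c.fpf h hh h2 _ (mul_mem (inv_mem v'.2) v.2) hcomm)).symm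
    obtain ⟨v, hv⟩ := (Finite.injective_iff_surjective.1 hf) ⟨u, hu⟩
    have e : v.1 * (h * v.1⁻¹ * h⁻¹) = u := congrArg Subtype.val hv
    exact ⟨v.1, v.2, h, hh, by rw [← e]; group⟩

theorem card_regular : Nat.card {h : G // h ∈ c.H ∧ h * h ≠ 1} = c.q - 3 := by
  classical
  haveI : Fintype c.H := Fintype.ofFinite _
  have e : Nat.card {h : G // h ∈ c.H ∧ h * h ≠ 1} =
      (Finset.univ \ ({1, ⟨c.z, c.zH⟩} : Finset c.H)).card := by
    rw [Nat.card_congr (?_ : {h : G // h ∈ c.H ∧ h * h ≠ 1} ≃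
      {x : c.H // x ∈ Finset.univ \ ({1, ⟨c.z, c.zH⟩} : Finset c.H)}), Nat.card_eq_fintype_card, Fintype.card_coe]
    refine ⟨fun h => ⟨⟨h.1, h.2.1⟩, ?_⟩, fun x => ⟨x.1.1, x.1.2, fun e => ?_⟩, fun _ => rfl, fun _ => rfl⟩
    · simp only [Finset.mem_sdiff, Finset.mem_univ, true_and, Finset.mem_insert, Finset.mem_singleton,
        Subtype.ext_iff]
      rintro (e | e) <;> apply h.2.2
      · show h.1 * h.1 = 1
        rw [e]; simp
      · show h.1 * h.1 = 1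
        rw [e]; exact c.hz
    · have hx := x.2
      simp only [Finset.mem_sdiff, Finset.mem_univ, true_and, Finset.mem_insert, Finset.mem_singleton,
        Subtype.ext_iff] at hx
      exact hx (c.H_sq x.1.2 e)
  have hne : (1 : c.H) ≠ ⟨c.z, c.zH⟩ := fun e => c.hz1 (congrArg Subtype.val e).symm
  rw [e, Finset.card_sdiff_of_subset (Finset.subset_univ _), Finset.card_univ, ← Nat.card_eq_fintype_card, c.cardH,
    Finset.card_pair hne]
  omega

/-- elements of `B` of order divisible by three -/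
theorem card_three_B :
    Nat.card {g : G | g ∈ c.B ∧ 3 ∣ orderOf g} + 1 + c.q ^ 2 + c.q ^ 3 * (c.q - 3) = c.q ^ 3 * (c.q - 1) := by
  classical
  set X : Set G := {g | g ∈ c.B ∧ 3 ∣ orderOf g}
  set Iv : Set G := {y | ∃ u ∈ c.U, u * c.z * u⁻¹ = y}
  set Rg : Set G := {y | ∃ u ∈ c.U, ∃ h, (h ∈ c.H ∧ h * h ≠ 1) ∧ u * h * u⁻¹ = y}
  have hIv : Iv.ncard = c.q ^ 2 := by
    have h := card_conj_image c.U c.z
    rw [c.cardCU, c.cardU, pow_succ] at h
    rw [← Nat.card_coe_set_eq]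
    exact Nat.eq_of_mul_eq_mul_right (by have := c.hq27; omega) h
  have hRg : Rg.ncard = c.q ^ 3 * (c.q - 3) := by
    rw [← Nat.card_coe_set_eq, ← c.cardU, ← c.card_regular, ← Nat.card_prod]
    refine (Nat.card_congr (Equiv.ofBijective (fun p : c.U × {h : G // h ∈ c.H ∧ h * h ≠ 1} =>
      (⟨p.1.1 * p.2.1 * p.1.1⁻¹, p.1.1, p.1.2, p.2.1, p.2.2, rfl⟩ : Rg)) ⟨?_, ?_⟩)).symm
    · intro p p' e
      have e' : p.1.1 * p.2.1 * p.1.1⁻¹ = p'.1.1 * p'.2.1 * p'.1.1⁻¹ := congrArg Subtype.val e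
      have hin : ∀ {v h : G}, v ∈ c.U → h ∈ c.H → ∃ v' ∈ c.U, v * h * v⁻¹ = v' * h := fun {v h} hv hh =>
        ⟨v * (h * v⁻¹ * h⁻¹), mul_mem hv (c.UN h (c.HB hh) _ (inv_mem hv)), by group⟩
      obtain ⟨v1, hv1, e1⟩ := hin p.1.2 p.2.2.1
      obtain ⟨v2, hv2, e2⟩ := hin p'.1.2 p'.2.2.1
      have hh := (c.uh_inj hv1 hv2 p.2.2.1 p'.2.2.1 (by rw [← e1, ← e2, e'])).2
      rw [← hh] at e'
      have hcomm : p.2.1 * (p'.1.1⁻¹ * p.1.1) = (p'.1.1⁻¹ * p.1.1) * p.2.1 := by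
        calc p.2.1 * (p'.1.1⁻¹ * p.1.1) = p'.1.1⁻¹ * (p'.1.1 * p.2.1 * p'.1.1⁻¹) * p.1.1 := by group
          _ = p'.1.1⁻¹ * (p.1.1 * p.2.1 * p.1.1⁻¹) * p.1.1 := by rw [e']
          _ = (p'.1.1⁻¹ * p.1.1) * p.2.1 := by group
      have := c.fpf _ p.2.2.1 p.2.2.2 _ (mul_mem (inv_mem p'.1.2) p.1.2) hcomm
      exact Prod.ext (Subtype.ext (inv_mul_eq_one.1 this).symm) (Subtype.ext hh)
    · rintro ⟨_, u, hu, h, hh, rfl⟩
      exact ⟨(⟨u, hu⟩, ⟨h, hh⟩), rfl⟩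
  have hord : ∀ u h : G, h ∈ c.H → ¬ 3 ∣ orderOf (u * h * u⁻¹) := fun u h hh h3 => by
    rw [orderOf_conj_eq] at h3
    exact c.q1_not_three (h3.trans (c.cardH ▸ Subgroup.orderOf_dvd_natCard _ hh))
  have hmemB : ∀ u ∈ c.U, ∀ h ∈ c.H, u * h * u⁻¹ ∈ c.B := fun u hu h hh =>
    mul_mem (mul_mem (c.UB hu) (c.HB hh)) (inv_mem (c.UB hu))
  have hB : (c.B : Set G) = X ∪ ({1} ∪ (Iv ∪ Rg)) := by
    ext g
    simp only [SetLike.mem_coe, Set.mem_union, Set.mem_singleton_iff]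
    constructor
    · intro hg
      by_cases h3 : 3 ∣ orderOf g
      · exact Or.inl ⟨hg, h3⟩
      obtain ⟨v, hv, h, hh, rfl⟩ := c.B_class hg h3
      by_cases h2 : h * h = 1
      · rcases c.H_sq hh h2 with rfl | rfl
        · exact Or.inr (Or.inl (by simp))
        · exact Or.inr (Or.inr (Or.inl ⟨v, hv, rfl⟩))
      · exact Or.inr (Or.inr (Or.inr ⟨v, hv, h, ⟨hh, h2⟩, rfl⟩))
    · rintro (h | rfl | ⟨u, hu, rfl⟩ | ⟨u, hu, h, hh, rfl⟩)
      exacts [h.1, one_mem _, hmemB u hu _ c.zH, hmemB u hu h hh.1]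
  have d1 : Disjoint X ({1} ∪ (Iv ∪ Rg)) := Set.disjoint_left.2 fun g hg => by
    rintro (rfl | ⟨u, hu, rfl⟩ | ⟨u, hu, h, hh, rfl⟩)
    · simp [X] at hg
    · exact hord u _ c.zH hg.2
    · exact hord u h hh.1 hg.2
  have d2 : Disjoint ({1} : Set G) (Iv ∪ Rg) := Set.disjoint_singleton_left.2 (by
    rintro (⟨u, hu, e⟩ | ⟨u, hu, h, hh, e⟩) <;> rw [conj_eq_one_iff] at e
    · exact c.hz1 e
    · exact hh.2 (by rw [e, one_mul]))
  have d3 : Disjoint Iv Rg := Set.disjoint_left.2 fun g => by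
    rintro ⟨u, hu, rfl⟩ ⟨v, hv, h, hh, e⟩
    apply hh.2
    have h1 : v * (h * h) * v⁻¹ = 1 :=
      calc v * (h * h) * v⁻¹ = (v * h * v⁻¹) * (v * h * v⁻¹) := by group
        _ = (u * c.z * u⁻¹) * (u * c.z * u⁻¹) := by rw [e]
        _ = u * (c.z * c.z) * u⁻¹ := by group
        _ = 1 := by rw [c.hz]; group
    rwa [conj_eq_one_iff] at h1
  have hcard : (c.B : Set G).ncard = c.q ^ 3 * (c.q - 1) := by
    rw [← c.card_B, ← Nat.card_coe_set_eq]
    rfl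
  rw [hB, Set.ncard_union_eq d1 (Set.toFinite _) (Set.toFinite _),
    Set.ncard_union_eq d2 (Set.toFinite _) (Set.toFinite _),
    Set.ncard_union_eq d3 (Set.toFinite _) (Set.toFinite _), Set.ncard_singleton, hIv, hRg] at hcard
  rw [Nat.card_coe_set_eq]
  omega

omit [Finite G] in
theorem three_not_U_index [Finite G] : ¬ 3 ∣ c.U.index := by
  have h1 := c.U.card_mul_index
  rw [c.cardU, c.cardG, mul_assoc] at h1
  have hpos : 0 < c.q ^ 3 := pow_pos (by have := c.hq27; omega) 3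
  rw [Nat.eq_of_mul_eq_mul_left hpos h1]
  intro h
  rcases (Nat.prime_three.dvd_mul).1 h with h | h
  · exact c.q1_not_three h
  · obtain ⟨k, hk⟩ := c.hq3
    have hk0 : k ≠ 0 := by rintro rfl; rw [pow_zero] at hk; have := c.hq27; omega
    have : 3 ∣ c.q ^ 3 := dvd_pow (hk ▸ dvd_pow_self 3 hk0) (by decide)
    omega

/-- an element normalising a 3-element is conjugate into `B` -/
theorem conj_B_of_three {y : G} (hy : orderOf y = 3) :
    ∃ k : G, k⁻¹ * y * k ∈ c.U ∧ ∀ g : G, g * y = y * g → k⁻¹ * g * k ∈ c.B := by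
  haveI : Fact (Nat.Prime 3) := ⟨Nat.prime_three⟩
  obtain ⟨k, hk⟩ := conj_elem_into (p := 3) hy c.three_not_U_index
  refine ⟨k, hk, fun g hg => c.tiU _ _ hk (fun e => ?_) ?_⟩
  · have : y = 1 := by
      calc y = k * (k⁻¹ * y * k) * k⁻¹ := by group
        _ = 1 := by rw [e]; group
    rw [this, orderOf_one] at hy
    omega
  · have e : k⁻¹ * g * k * (k⁻¹ * y * k) * (k⁻¹ * g * k)⁻¹ = k⁻¹ * (g * y) * g⁻¹ * k := by group
    rw [e, hg, show k⁻¹ * (y * g) * g⁻¹ * k = k⁻¹ * y * k by group]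
    exact hk

/-- the 3-singular elements -/
theorem card_three :
    Nat.card {g : G | 3 ∣ orderOf g} * Nat.card c.B = Nat.card G * Nat.card {g : G | g ∈ c.B ∧ 3 ∣ orderOf g} := by
  classical
  have e : {g : G | 3 ∣ orderOf g} =
      {y : G | ∃ g, ∃ x ∈ {g : G | g ∈ c.B ∧ 3 ∣ orderOf g}, g * x * g⁻¹ = y} := by
    ext y
    constructor
    · intro hy
      have ho : orderOf (y ^ (orderOf y / 3)) = 3 := orderOf_pow_orderOf_div (orderOf_pos y).ne' hy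
      obtain ⟨k, -, hk⟩ := c.conj_B_of_three ho
      refine ⟨k, k⁻¹ * y * k, ⟨hk y ((Commute.refl y).pow_right _).eq, ?_⟩, by group⟩
      have : orderOf (k⁻¹ * y * k⁻¹⁻¹) = orderOf y := orderOf_conj_eq _ _
      rw [inv_inv] at this
      show 3 ∣ orderOf (k⁻¹ * y * k)
      rwa [this]
    · rintro ⟨g, x, hx, rfl⟩
      show 3 ∣ orderOf _
      rw [orderOf_conj_eq]; exact hx.2
  rw [e]
  refine card_conjSet _ c.B (fun k hk x hx => ⟨mul_mem (mul_mem hk hx.1) (inv_mem hk), ?_⟩) fun g x hx hgx => ?_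
  · rw [orderOf_conj_eq]; exact hx.2
  · set s := x ^ (orderOf x / 3)
    have ho : orderOf s = 3 := orderOf_pow_orderOf_div (orderOf_pos x).ne' hx.2
    have hs3 : s ^ 3 ^ 1 = 1 := by rw [pow_one, ← ho, pow_orderOf_eq_one]
    have hs : s ∈ c.U := c.three_mem (pow_mem hx.1 _) hs3
    have e : g * s * g⁻¹ = (g * x * g⁻¹) ^ (orderOf x / 3) := (conj_pow).symm
    have hgs : g * s * g⁻¹ ∈ c.U :=
      c.three_mem (e ▸ pow_mem hgx.1 _) (j := 1) (by rw [conj_pow, hs3]; group)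
    exact c.tiU g s hs (fun h => by rw [h, orderOf_one] at ho; omega) hgs

end Data

end Cfsg.Agent.Lib.ReeTori
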