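import Cfsg.Agent.Lib.ReeTori.Torus

/-!
Normalisers of the tori and the classification of the elements.
-/

set_option autoImplicit false

namespace Cfsg.Agent.Lib.ReeTori

theorem mzmod_cases (δ : Multiplicative (ZMod 2)) : δ = 1 ∨ δ = Multiplicative.ofAdd 1 := by
  revert δ; decide

theorem mzmod_shift : ∀ ε ε' : Multiplicative (ZMod 2), ε = ε' ∨ ε = Multiplicative.ofAdd 1 * ε' := by
  decide

namespace Data

variable {G L : Type*} [Group G] [Finite G] [Group L] [Finite L] (c : Data G L)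

/-- the involutions of `M` -/
def invM : Set G := {v | v ∈ c.M ∧ v * v = 1 ∧ v ≠ 1}

theorem card_invM : c.invM.ncard = 3 := by
  obtain ⟨t, ht, ht1, ht2⟩ := c.exists_invol_T
  have hne : Multiplicative.ofAdd (1 : ZMod 2) ≠ 1 := by decide
  have e : c.invM = {c.ι (Multiplicative.ofAdd 1, 1), c.ι (1, t), c.ι (Multiplicative.ofAdd 1, t)} := by
    ext v
    constructor
    · rintro ⟨hv, hv2, hv1⟩
      obtain ⟨⟨δ, y⟩, hy, rfl⟩ := c.exists_of_M hv
      rw [← map_mul, ← map_one c.ι] at hv2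
      have hy2 : y * y = 1 := congrArg Prod.snd (c.ι_injective hv2)
      have hy' : y = 1 ∨ y = t := by
        by_cases h : y = 1
        · exact Or.inl h
        · haveI := c.psl.cycT
          have hy0 : y ∈ c.T := hy
          exact Or.inr (cyclic_two_roots c.T hy0 ht hy2 ht2 h ht1)
      have hδ := mzmod_cases δ
      simp only [Set.mem_insert_iff, Set.mem_singleton_iff]
      rcases hδ with rfl | rfl <;> rcases hy' with rfl | rfl
      · exact absurd (map_one c.ι) hv1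
      · exact Or.inr (Or.inl rfl)
      · exact Or.inl rfl
      · exact Or.inr (Or.inr rfl)
    · rintro (rfl | rfl | rfl) <;> refine ⟨c.mem_M.2 ?_, ?_, fun h => ?_⟩
      all_goals first
        | exact one_mem _
        | exact ht
        | (rw [← map_mul, ← map_one c.ι]; exact congrArg c.ι (Prod.ext (zmod_sq _) (by simp [ht2])))
        | (rw [← map_one c.ι] at h
           have h' := c.ι_injective h
           first
             | exact hne (congrArg Prod.fst h')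
             | exact ht1 (congrArg Prod.snd h'))
  rw [e, Set.ncard_insert_of_notMem, Set.ncard_insert_of_notMem, Set.ncard_singleton]
  · simp only [Set.mem_singleton_iff]
    exact fun h => hne (congrArg Prod.fst (c.ι_injective h)).symm
  · simp only [Set.mem_insert_iff, Set.mem_singleton_iff]
    rintro (h | h) <;> exact ht1 (congrArg Prod.snd (c.ι_injective h)).symm

/-- the torus of order `(q + 1) / 4` -/
def A₁ : Subgroup G where
  carrier := {g | g ∈ c.M ∧ g ^ c.n = 1}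
  one_mem' := ⟨one_mem _, one_pow _⟩
  mul_mem' := fun {a b} ha hb => ⟨mul_mem ha.1 hb.1, by
    rw [(show Commute a b from c.M_comm ha.1 hb.1).mul_pow, ha.2, hb.2, one_mul]⟩
  inv_mem' := fun {a} ha => ⟨inv_mem ha.1, by rw [inv_pow, ha.2, inv_one]⟩

theorem cyc_A₁ : IsCyclic c.A₁ := by
  haveI := c.psl.cycT
  let f : c.A₁ →* c.T :=
    { toFun := fun g => ⟨(c.e ⟨g.1, mem_cent.2 (c.M_le_cz g.2.1)⟩).2, by
        obtain ⟨p, hp, e⟩ := c.exists_of_M g.2.1
        have : (⟨g.1, mem_cent.2 (c.M_le_cz g.2.1)⟩ : Subgroup.centralizer ({c.z} : Set G)) = c.e.symm p :=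
          Subtype.ext e.symm
        rw [this, MulEquiv.apply_symm_apply]
        exact hp⟩
      map_one' := Subtype.ext (congrArg Prod.snd (map_one c.e))
      map_mul' := fun g h => Subtype.ext (congrArg Prod.snd
        (map_mul c.e ⟨g.1, mem_cent.2 (c.M_le_cz g.2.1)⟩ ⟨h.1, mem_cent.2 (c.M_le_cz h.2.1)⟩)) }
  refine isCyclic_of_injective f ((injective_iff_map_eq_one f).2 fun g hg => ?_)
  obtain ⟨y, -, -, e⟩ := c.odd_M g.2.1 g.2.2
  have h1 : (c.e ⟨g.1, mem_cent.2 (c.M_le_cz g.2.1)⟩).2 = 1 := congrArg Subtype.val hg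
  have : (⟨g.1, mem_cent.2 (c.M_le_cz g.2.1)⟩ : Subgroup.centralizer ({c.z} : Set G)) = c.e.symm (1, y) :=
    Subtype.ext e.symm
  rw [this, MulEquiv.apply_symm_apply] at h1
  have hy : y = 1 := h1
  rw [hy] at e
  exact Subtype.ext (e.symm.trans (map_one c.ι))

theorem card_A₁ : Nat.card c.A₁ = c.n := by
  classical
  haveI := c.cyc_A₁
  haveI := c.psl.cycT
  haveI : Fintype c.A₁ := Fintype.ofFinite _
  apply le_antisymm
  · have hn : 0 < c.n := by have := c.n_spec; omega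
    have hle := IsCyclic.card_pow_eq_one_le (α := c.A₁) hn
    rw [Finset.filter_true_of_mem (fun a _ => Subtype.ext (by rw [SubgroupClass.coe_pow]; exact a.2.2)),
      Finset.card_univ, ← Nat.card_eq_fintype_card] at hle
    exact hle
  · obtain ⟨s, hs⟩ := IsCyclic.exists_ofOrder_eq_natCard (α := c.T)
    rw [c.card_T, ← Subgroup.orderOf_coe] at hs
    have ho : orderOf (c.ι (1, s.1 * s.1)) = c.n := by
      rw [orderOf_injective c.ι c.ι_injective, Prod.orderOf, orderOf_one, Nat.lcm_one_left, ← pow_two,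
        orderOf_pow_of_dvd two_ne_zero (hs ▸ dvd_mul_right 2 c.n), hs]
      omega
    have hmem : c.ι (1, s.1 * s.1) ∈ c.A₁ := ⟨c.mem_M.2 (mul_mem s.2 s.2), by rw [← ho, pow_orderOf_eq_one]⟩
    rw [← ho]
    exact Nat.le_of_dvd Nat.card_pos (Subgroup.orderOf_dvd_natCard _ hmem)

theorem exists_A₁ : ∃ x, x ∈ c.M ∧ x ^ c.n = 1 ∧ x ≠ 1 := by
  haveI : Nontrivial c.A₁ := Finite.one_lt_card_iff_nontrivial.1 (by rw [c.card_A₁]; have := c.n_spec; omega)
  obtain ⟨⟨x, hx⟩, hx1⟩ := exists_ne (1 : c.A₁)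
  exact ⟨x, hx.1, hx.2, fun e => hx1 (Subtype.ext e)⟩

theorem card_norm_M : Nat.card (Subgroup.normalizer (c.M : Set G)) = 6 * (c.q + 1) := by
  obtain ⟨x, hxM, hxn, hx1⟩ := c.exists_A₁
  obtain ⟨t, ht, ht1, ht2⟩ := c.exists_invol_T
  set N := Subgroup.normalizer (c.M : Set G)
  have e1 : {y : G | ∃ u ∈ N, u * c.z * u⁻¹ = y} = c.invM := by
    ext y
    constructor
    · rintro ⟨u, hu, rfl⟩
      refine ⟨(Subgroup.mem_normalizer_iff.1 hu c.z).1 (c.ι_one_one ▸ c.mem_M.2 (one_mem _)), ?_, fun h => ?_⟩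
      · rw [show u * c.z * u⁻¹ * (u * c.z * u⁻¹) = u * (c.z * c.z) * u⁻¹ by group, c.hz]; group
      · exact c.hz1 (conj_eq_one_iff.1 h)
    · rintro ⟨hy, hy2, hy1⟩
      obtain ⟨K, hK, hKz, -⟩ := c.move hxM hxn hx1 hy hy2 hy1
      exact ⟨K, hK, hKz⟩
  have e2 : Nat.card {u : G // u ∈ N ∧ u * c.z = c.z * u} = 2 * (c.q + 1) := by
    obtain ⟨hC, hnorm⟩ := c.psl.centInv t ht ht1 ht2
    rw [← hC, show (2 : ℕ) = Nat.card (Multiplicative (ZMod 2)) from
      ((Nat.card_congr Multiplicative.toAdd).trans (Nat.card_zmod 2)).symm, ← Nat.card_prod]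
    refine (Nat.card_congr (Equiv.ofBijective
      (fun p : Multiplicative (ZMod 2) × Subgroup.centralizer ({t} : Set L) =>
        (⟨c.ι (p.1, p.2.1), ?_, c.cent_z.2 ⟨_, rfl⟩⟩ : {u : G // u ∈ N ∧ u * c.z = c.z * u})) ⟨?_, ?_⟩)).symm
    · rw [Subgroup.mem_normalizer_iff]
      intro g
      have key : ∀ (l : L) (δ : Multiplicative (ZMod 2)), l ∈ Subgroup.centralizer ({t} : Set L) →
          ∀ g ∈ c.M, c.ι (δ, l) * g * (c.ι (δ, l))⁻¹ ∈ c.M := by
        intro l δ hl g hg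
        obtain ⟨⟨ε, y⟩, hy, rfl⟩ := c.exists_of_M hg
        rw [← map_inv, ← map_mul, ← map_mul]
        exact c.mem_M.2 (hnorm l hl y hy)
      refine ⟨key _ _ p.2.2 g, fun h => ?_⟩
      have h' := key (p.2.1)⁻¹ (p.1)⁻¹ (inv_mem p.2.2) _ h
      rw [show ((p.1)⁻¹, (p.2.1)⁻¹) = (p.1, p.2.1)⁻¹ from rfl, map_inv] at h'
      simpa [mul_assoc] using h'
    · intro p p' e
      have he := congrArg Subtype.val e
      have := c.ι_injective he
      exact Prod.ext (congrArg Prod.fst this :) (Subtype.ext (congrArg Prod.snd this :))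
    · rintro ⟨u, hu, huz⟩
      obtain ⟨⟨δ, l⟩, rfl⟩ := c.cent_z.1 huz
      have h1 := (Subgroup.mem_normalizer_iff.1 hu (c.ι (1, t))).1 (c.mem_M.2 ht)
      rw [← map_inv, ← map_mul, ← map_mul] at h1
      have hlt : l * t * l⁻¹ ∈ c.T := c.mem_M.1 h1
      haveI := c.psl.cycT
      have heq : l * t * l⁻¹ = t := cyclic_two_roots c.T hlt ht
        (by rw [show l * t * l⁻¹ * (l * t * l⁻¹) = l * (t * t) * l⁻¹ by group, ht2]; group) ht2
        (fun h => ht1 (conj_eq_one_iff.1 h)) ht1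
      exact ⟨(δ, ⟨l, mem_cent.2 (mul_inv_eq_iff_eq_mul.1 heq)⟩), rfl⟩
  have h := card_conj_image N c.z
  rw [e1, e2, Nat.card_coe_set_eq, c.card_invM] at h
  omega

/-- The normalisers of the non-trivial subgroups of `A₁`. -/
theorem norm_A₁ {A₀ : Subgroup G} (h : A₀ ≤ c.A₁) (h0 : A₀ ≠ ⊥) :
    Subgroup.normalizer (A₀ : Set G) = Subgroup.normalizer (c.M : Set G) := by
  apply le_antisymm
  · obtain ⟨x, hx, hx1⟩ := (Subgroup.bot_or_exists_ne_one A₀).resolve_left h0
    obtain ⟨hxM, hxn⟩ := h hx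
    intro g hg
    have key : ∀ g ∈ Subgroup.normalizer (A₀ : Set G), ∀ m ∈ c.M, g * m * g⁻¹ ∈ c.M := by
      intro g hg m hm
      set x' := g⁻¹ * x * g with hx'
      have hx'A : x' ∈ A₀ := by
        have := (Subgroup.mem_normalizer_iff.1 (inv_mem hg) x).1 hx
        rwa [inv_inv] at this
      obtain ⟨hx'M, hx'n⟩ := h hx'A
      have hcomm : m * x' = x' * m := c.M_comm hm hx'M
      refine (c.cent_eq hxM hxn hx1 _).1 ?_
      calc g * m * g⁻¹ * x = g * (m * x') * g⁻¹ := by rw [hx']; group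
        _ = g * (x' * m) * g⁻¹ := by rw [hcomm]
        _ = x * (g * m * g⁻¹) := by rw [hx']; group
    rw [Subgroup.mem_normalizer_iff]
    intro m
    refine ⟨key g hg m, fun hm => ?_⟩
    have := key g⁻¹ (inv_mem hg) _ hm
    simpa [mul_assoc] using this
  · haveI := c.cyc_A₁
    refine le_trans ?_ (normalizer_le_of_cyclic h)
    intro g hg
    have key : ∀ g ∈ Subgroup.normalizer (c.M : Set G), ∀ m ∈ c.A₁, g * m * g⁻¹ ∈ c.A₁ := fun g hg m hm =>
      ⟨(Subgroup.mem_normalizer_iff.1 hg m).1 hm.1, by rw [conj_pow, hm.2]; group⟩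
    rw [Subgroup.mem_normalizer_iff]
    intro m
    refine ⟨key g hg m, fun hm => ?_⟩
    have := key g⁻¹ (inv_mem hg) _ hm
    simpa [mul_assoc] using this

theorem H_comm {g h : G} (hg : g ∈ c.H) (hh : h ∈ c.H) : g * h = h * g := by
  haveI := c.cycH
  letI := IsCyclic.commGroup (α := c.H)
  exact congrArg Subtype.val (mul_comm (⟨g, hg⟩ : c.H) ⟨h, hh⟩)

theorem w_z : c.w * c.z = c.z * c.w := by
  have hmem : c.w * c.z * c.w⁻¹ ∈ c.H := (Subgroup.mem_normalizer_iff.1 c.hw c.z).1 c.zH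
  have h2 : c.w * c.z * c.w⁻¹ * (c.w * c.z * c.w⁻¹) = 1 :=
    calc c.w * c.z * c.w⁻¹ * (c.w * c.z * c.w⁻¹) = c.w * (c.z * c.z) * c.w⁻¹ := by group
      _ = 1 := by rw [c.hz]; group
  rcases c.H_sq hmem h2 with h | h
  · exact absurd (conj_eq_one_iff.1 h) c.hz1
  · exact mul_inv_eq_iff_eq_mul.1 h

/-- elements normalising part of the split torus -/
theorem mem_norm_H {h g : G} (hh : h ∈ c.H) (h2 : h * h ≠ 1) (hg : g * h * g⁻¹ ∈ c.H) :
    g ∈ Subgroup.normalizer (c.H : Set G) ∧ g * c.z = c.z * g := by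
  rcases c.fix2 h hh h2 g hg with hgH | hgH
  · exact ⟨Subgroup.le_normalizer hgH, c.H_comm hgH c.zH⟩
  · have e : g = c.w * (c.w⁻¹ * g) := by group
    rw [e]
    refine ⟨mul_mem c.hw (Subgroup.le_normalizer hgH), ?_⟩
    rw [mul_assoc, c.H_comm hgH c.zH, ← mul_assoc, c.w_z, mul_assoc]

theorem card_norm_H : Nat.card (Subgroup.normalizer (c.H : Set G)) = 2 * (c.q - 1) := by
  obtain ⟨h, hh, h2⟩ : ∃ h, h ∈ c.H ∧ h * h ≠ 1 := by
    have h := c.card_regular
    have : 0 < Nat.card {h : G // h ∈ c.H ∧ h * h ≠ 1} := by rw [h]; have := c.hq27; omega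
    obtain ⟨⟨h, hh⟩⟩ := (Nat.card_pos_iff.1 this).1
    exact ⟨h, hh⟩
  have e : (Subgroup.normalizer (c.H : Set G) : Set G) = (c.H : Set G) ∪ (c.w * ·) '' (c.H : Set G) := by
    ext g
    constructor
    · intro hg
      rcases c.fix2 h hh h2 g ((Subgroup.mem_normalizer_iff.1 hg h).1 hh) with hgH | hgH
      · exact Or.inl hgH
      · exact Or.inr ⟨_, hgH, by group⟩
    · rintro (hg | ⟨k, hk, rfl⟩)
      · exact Subgroup.le_normalizer hg
      · exact mul_mem c.hw (Subgroup.le_normalizer hk)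
  have hd : Disjoint (c.H : Set G) ((c.w * ·) '' (c.H : Set G)) := Set.disjoint_left.2 fun g hg => by
    rintro ⟨k, hk, rfl⟩
    exact c.hwH (by simpa using mul_mem hg (inv_mem hk))
  have h1 : Nat.card (Subgroup.normalizer (c.H : Set G)) = (Subgroup.normalizer (c.H : Set G) : Set G).ncard :=
    Nat.card_coe_set_eq _
  rw [h1, e, Set.ncard_union_eq hd (Set.toFinite _) (Set.toFinite _),
    Set.ncard_image_of_injective _ (mul_right_injective _)]
  have : (c.H : Set G).ncard = c.q - 1 := by rw [← c.cardH]; exact (Nat.card_coe_set_eq _).symm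
  omega

theorem norm_H {A₀ : Subgroup G} (h : A₀ ≤ c.H) (h2 : ∃ a ∈ A₀, a * a ≠ 1) :
    Subgroup.normalizer (A₀ : Set G) = Subgroup.normalizer (c.H : Set G) := by
  obtain ⟨a, ha, ha2⟩ := h2
  haveI := c.cycH
  refine le_antisymm (fun g hg => (c.mem_norm_H (h ha) ha2 (h ((Subgroup.mem_normalizer_iff.1 hg a).1 ha))).1)
    (normalizer_le_of_cyclic h)

/-- elements of the centraliser of `z` -/
theorem cz_class (p : Multiplicative (ZMod 2) × L) :
    (c.ι p) ^ 6 = 1 ∨ (∃ k, k * c.ι p * k⁻¹ ∈ c.M) ∨ ∃ k, k * c.ι p * k⁻¹ ∈ c.H := by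
  classical
  obtain ⟨δ, x⟩ := p
  have conjι : ∀ g : L, c.ι (1, g) * c.ι (δ, x) * (c.ι (1, g))⁻¹ = c.ι (δ, g * x * g⁻¹) := fun g => by
    rw [← map_inv, ← map_mul, ← map_mul]; simp
  rcases c.psl.cover x with h | ⟨g, hg⟩ | ⟨g, hg⟩
  · refine Or.inl ?_
    rw [← map_pow, ← map_one c.ι]
    refine congrArg c.ι (Prod.ext ?_ ?_)
    · show δ ^ (2 * 3) = 1
      rw [pow_mul, pow_two, zmod_sq, one_pow]
    · show x ^ (3 * 2) = 1
      rw [pow_mul, h, one_pow]
  · exact Or.inr (Or.inl ⟨c.ι (1, g), by rw [conjι]; exact c.mem_M.2 hg⟩)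
  · refine Or.inr (Or.inr ?_)
    set H' := c.H.comap c.ι with hH'
    set P := H'.map (MonoidHom.snd _ L) with hP
    have hz' : ((Multiplicative.ofAdd 1, 1) : Multiplicative (ZMod 2) × L) ∈ H' := by
      show c.ι _ ∈ c.H
      rw [c.ι_one_one]; exact c.zH
    have hH'eq : H' = (⊤ : Subgroup _).prod P := by
      ext ⟨ε, y⟩
      constructor
      · exact fun h => ⟨Subgroup.mem_top _, ⟨(ε, y), h, rfl⟩⟩
      · rintro ⟨-, ⟨ε', y'⟩, h', rfl⟩
        have hε := mzmod_shift ε ε'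
        rcases hε with rfl | rfl
        · exact h'
        · have := mul_mem hz' h'
          simpa using this
    have hcardP : 2 * Nat.card P = c.q - 1 := by
      have h1 : Nat.card H' = c.q - 1 := by
        rw [← c.cardH, ← Subgroup.card_map_of_injective c.ι_injective, Subgroup.map_comap_eq_self]
        intro h hh
        exact c.cent_z.1 (c.H_comm hh c.zH)
      rw [hH'eq, Nat.card_congr (Subgroup.prodEquiv _ _).toEquiv, Nat.card_prod, Subgroup.card_top,
        show Nat.card (Multiplicative (ZMod 2)) = 2 from (Nat.card_congr Multiplicative.toAdd).trans (Nat.card_zmod 2)]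
        at h1
      exact h1
    haveI := c.cycH
    haveI : IsCyclic H' := isCyclic_of_injective ((c.ι.comp H'.subtype).codRestrict c.H fun h => h.2)
      fun a b e => by
        have he := congrArg Subtype.val e
        exact Subtype.ext (c.ι_injective he)
    haveI : IsCyclic P := isCyclic_of_surjective ((MonoidHom.snd _ L).subgroupMap H')
      (MonoidHom.subgroupMap_surjective _ _)
    obtain ⟨h, hh⟩ := IsCyclic.exists_ofOrder_eq_natCard (α := P)
    rw [← Subgroup.orderOf_coe] at hh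
    have hq := c.hq27
    have hq8 := c.hq8
    have hk : ∀ d : ℕ, orderOf h.1 ∣ d → Nat.Coprime (orderOf h.1) d → False := fun d h1 h2 => by
      have := Nat.eq_one_of_dvd_coprimes h2 dvd_rfl h1
      omega
    obtain ⟨g₀, hg₀⟩ : ∃ g₀, g₀ * h.1 * g₀⁻¹ ∈ c.S := by
      rcases c.psl.cover h.1 with h3 | ⟨g, hg⟩ | h3
      · exfalso
        have := Nat.le_of_dvd (by norm_num) (orderOf_dvd_of_pow_eq_one h3)
        omega
      · exfalso
        have h1 : orderOf h.1 ∣ Nat.card c.T := orderOf_conj_eq g h.1 ▸ Subgroup.orderOf_dvd_natCard _ hg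
        refine hk _ h1 ?_
        refine Nat.coprime_of_dvd fun p hp ha hb => ?_
        have ha' : p ∣ c.q - 1 := hcardP ▸ (hh ▸ ha).mul_left 2
        have hb' : p ∣ c.q + 1 := c.psl.cardT ▸ hb.mul_left 2
        have h2 : p ∣ 2 := by
          have := Nat.dvd_sub hb' ha'
          rwa [show c.q + 1 - (c.q - 1) = 2 by omega] at this
        rw [(Nat.prime_dvd_prime_iff_eq hp Nat.prime_two).1 h2, hh] at ha
        omega
      · exact h3
    have hS : (Subgroup.zpowers h.1).map (MulAut.conj g₀).toMonoidHom = c.S := by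
      refine Subgroup.eq_of_le_of_card_ge ?_ ?_
      · rintro _ ⟨y, ⟨i, rfl⟩, rfl⟩
        simp only [MulEquiv.coe_toMonoidHom, map_zpow, MulAut.conj_apply]
        exact zpow_mem hg₀ i
      · rw [Subgroup.card_map_of_injective (MulAut.conj g₀).injective, Nat.card_zpowers, hh]
        have := c.psl.cardS
        omega
    have hx : g * x * g⁻¹ ∈ (Subgroup.zpowers h.1).map (MulAut.conj g₀).toMonoidHom := hS ▸ hg
    obtain ⟨y, hy, e⟩ := hx
    have hyP : y ∈ P := Subgroup.zpowers_le.2 h.2 hy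
    have e2 : g₀⁻¹ * g * x * (g₀⁻¹ * g)⁻¹ = y := by
      calc g₀⁻¹ * g * x * (g₀⁻¹ * g)⁻¹ = g₀⁻¹ * (g * x * g⁻¹) * g₀ := by group
        _ = g₀⁻¹ * (g₀ * y * g₀⁻¹) * g₀ := by rw [← e]; rfl
        _ = y := by group
    refine ⟨c.ι (1, g₀⁻¹ * g), ?_⟩
    rw [conjι, e2]
    show (δ, y) ∈ H'
    rw [hH'eq]
    exact ⟨Subgroup.mem_top _, hyP⟩

/-- elements commuting with an involution -/
theorem invol_class {g v : G} (hv2 : v * v = 1) (hv1 : v ≠ 1) (h : g * v = v * g) :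
    g ^ 6 = 1 ∨ (∃ k, k * g * k⁻¹ ∈ c.M) ∨ ∃ k, k * g * k⁻¹ ∈ c.H := by
  obtain ⟨k, hk⟩ := c.invol v hv2 hv1
  have hgz : k⁻¹ * g * k * c.z = c.z * (k⁻¹ * g * k) := by
    calc k⁻¹ * g * k * c.z = k⁻¹ * (g * (k * c.z * k⁻¹)) * k := by group
      _ = k⁻¹ * ((k * c.z * k⁻¹) * g) * k := by rw [hk, h]
      _ = c.z * (k⁻¹ * g * k) := by group
  obtain ⟨p, hp⟩ := c.cent_z.1 hgz
  rcases c.cz_class p with h6 | ⟨l, hl⟩ | ⟨l, hl⟩
  · left
    rw [hp] at h6
    have : k⁻¹ * g ^ 6 * k = 1 := by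
      rw [← h6]
      have h2 := (conj_pow (a := k⁻¹) (b := g) (i := 6)).symm
      rw [inv_inv] at h2
      exact h2
    calc g ^ 6 = k * (k⁻¹ * g ^ 6 * k) * k⁻¹ := by group
      _ = 1 := by rw [this]; group
  · exact Or.inr (Or.inl ⟨l * k⁻¹, by rw [hp] at hl; simpa [mul_assoc] using hl⟩)
  · exact Or.inr (Or.inr ⟨l * k⁻¹, by rw [hp] at hl; simpa [mul_assoc] using hl⟩)

theorem H_index {p : ℕ} (hp : p.Prime) (hp2 : p ≠ 2) (hd : p ∣ c.q - 1) : ¬ p ∣ c.H.index := by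
  have h1 := c.H.card_mul_index
  rw [c.cardH, c.cardG] at h1
  have h2 : c.H.index = c.q ^ 3 * (c.q ^ 3 + 1) := by
    refine Nat.eq_of_mul_eq_mul_left (by have := c.hq27; omega : 0 < c.q - 1) ?_
    rw [h1]; ring
  rw [h2]
  intro h
  haveI : Fact p.Prime := ⟨hp⟩
  have hq : (c.q : ZMod p) = 1 := by
    have h0 : ((c.q - 1 : ℕ) : ZMod p) = 0 := (ZMod.natCast_eq_zero_iff _ _).2 hd
    rwa [Nat.cast_sub (by have := c.hq27; omega), Nat.cast_one, sub_eq_zero] at h0
  have h0 := (ZMod.natCast_eq_zero_iff _ _).2 h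
  push_cast at h0
  rw [hq] at h0
  norm_num at h0
  exact hp2 ((Nat.prime_dvd_prime_iff_eq hp Nat.prime_two).1 ((ZMod.natCast_eq_zero_iff 2 p).1 (by exact_mod_cast h0)))

theorem A₁_index {p : ℕ} (hp : p.Prime) (hp2 : p ≠ 2) (hp3 : p ≠ 3) (hd : p ∣ c.q + 1) :
    ¬ p ∣ c.A₁.index := by
  have h1 := c.A₁.card_mul_index
  rw [c.card_A₁, c.cardG] at h1
  have hn := c.n_spec
  have hq := c.hq27
  haveI : Fact p.Prime := ⟨hp⟩
  have hqm : (c.q : ZMod p) = -1 := by
    have h0 : ((c.q + 1 : ℕ) : ZMod p) = 0 := (ZMod.natCast_eq_zero_iff _ _).2 hd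
    push_cast at h0
    linear_combination h0
  have h2 : c.A₁.index = 4 * c.q ^ 3 * (c.q - 1) * (c.a * c.b) := by
    refine Nat.eq_of_mul_eq_mul_left (by omega : 0 < c.n) ?_
    rw [h1]
    have e : c.q ^ 3 + 1 = (c.q + 1) * (c.a * c.b) := by
      have hab := c.hab
      have e1 : (c.q + 1) * (c.a * c.b + c.q) = (c.q + 1) * (c.q * c.q + 1) := by rw [hab]
      nlinarith [e1]
    rw [e, ← hn.1]; ring
  rw [h2]
  intro h
  have h0 := (ZMod.natCast_eq_zero_iff _ _).2 h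
  have hab : (((c.a * c.b : ℕ)) : ZMod p) = 3 := by
    have := congrArg (fun n : ℕ => (n : ZMod p)) c.hab
    push_cast at this ⊢
    rw [hqm] at this
    linear_combination this
  rw [Nat.cast_mul, hab, Nat.cast_mul, Nat.cast_mul, Nat.cast_pow, Nat.cast_sub (by omega), hqm] at h0
  have h24 : ((24 : ℕ) : ZMod p) = 0 := by push_cast at h0 ⊢; linear_combination h0
  have hd24 : p ∣ 2 ^ 3 * 3 := (ZMod.natCast_eq_zero_iff 24 p).1 h24
  rcases hp.dvd_mul.1 hd24 with h | h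
  · exact hp2 ((Nat.prime_dvd_prime_iff_eq hp Nat.prime_two).1 (hp.dvd_of_dvd_pow h))
  · exact hp3 ((Nat.prime_dvd_prime_iff_eq hp Nat.prime_three).1 h)

/-- elements with a small prime in their order commute with an involution -/
theorem exists_invol {g : G} {p : ℕ} (hp : p.Prime) (hp3 : p ≠ 3) (hg : p ∣ orderOf g)
    (hd : p ∣ c.q - 1 ∨ p ∣ c.q + 1) : ∃ v, v * v = 1 ∧ v ≠ 1 ∧ g * v = v * g := by
  haveI : Fact p.Prime := ⟨hp⟩
  set s := g ^ (orderOf g / p) with hs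
  have ho : orderOf s = p := orderOf_pow_orderOf_div (orderOf_pos g).ne' hg
  have hgs : g * s = s * g := ((Commute.refl g).pow_right _).eq
  by_cases hp2 : p = 2
  · subst hp2
    refine ⟨s, ?_, fun e => by rw [e, orderOf_one] at ho; omega, hgs⟩
    rw [← pow_two, ← ho, pow_orderOf_eq_one]
  have fin : ∀ k : G, k⁻¹ * g * k * c.z = c.z * (k⁻¹ * g * k) →
      ∃ v, v * v = 1 ∧ v ≠ 1 ∧ g * v = v * g := by
    intro k hk
    refine ⟨k * c.z * k⁻¹, ?_, fun h => c.hz1 (conj_eq_one_iff.1 h), ?_⟩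
    · rw [show k * c.z * k⁻¹ * (k * c.z * k⁻¹) = k * (c.z * c.z) * k⁻¹ by group, c.hz]; group
    · calc g * (k * c.z * k⁻¹) = k * (k⁻¹ * g * k * c.z) * k⁻¹ := by group
        _ = k * (c.z * (k⁻¹ * g * k)) * k⁻¹ := by rw [hk]
        _ = k * c.z * k⁻¹ * g := by group
  have hconj : ∀ k : G, k⁻¹ * g * k * (k⁻¹ * s * k) = k⁻¹ * s * k * (k⁻¹ * g * k) := fun k => by
    calc k⁻¹ * g * k * (k⁻¹ * s * k) = k⁻¹ * (g * s) * k := by group
      _ = k⁻¹ * (s * g) * k := by rw [hgs]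
      _ = k⁻¹ * s * k * (k⁻¹ * g * k) := by group
  have hord : ∀ k : G, orderOf (k⁻¹ * s * k) = p := fun k => by
    have := orderOf_conj_eq k⁻¹ s
    rw [inv_inv] at this
    rw [this, ho]
  rcases hd with hd | hd
  · obtain ⟨k, hk⟩ := conj_elem_into ho (c.H_index hp hp2 hd)
    refine fin k (c.mem_norm_H hk ?_ ?_).2
    · intro e
      have := orderOf_dvd_of_pow_eq_one (show (k⁻¹ * s * k) ^ 2 = 1 by rw [pow_two, e])
      rw [hord k] at this
      exact hp2 ((Nat.prime_dvd_prime_iff_eq hp Nat.prime_two).1 this)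
    · rw [mul_inv_eq_iff_eq_mul.2 (hconj k)]; exact hk
  · obtain ⟨k, hk⟩ := conj_elem_into ho (c.A₁_index hp hp2 hp3 hd)
    refine fin k (c.M_le_cz ((c.cent_eq hk.1 hk.2 (fun e => ?_) _).1 (hconj k)))
    have := hord k
    rw [e, orderOf_one] at this
    exact hp.ne_one this.symm

theorem cube_add_one : c.q ^ 3 + 1 = (c.q + 1) * (c.a * c.b) := by
  have hab := c.hab
  have e1 : (c.q + 1) * (c.a * c.b + c.q) = (c.q + 1) * (c.q * c.q + 1) := by rw [hab]
  nlinarith [e1]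

/-- elements of order prime to three -/
theorem classify {g : G} (h3 : ¬ 3 ∣ orderOf g) :
    (g * g = 1) ∨ (∃ k, ∃ h ∈ c.H, h * h ≠ 1 ∧ k * h * k⁻¹ = g) ∨
      (∃ k, ∃ x ∈ c.M, x * x ≠ 1 ∧ k * x * k⁻¹ = g) ∨ orderOf g ∣ c.a * c.b := by
  by_cases hsq : g * g = 1
  · exact Or.inl hsq
  right
  have sq_conj : ∀ k : G, k * g * k⁻¹ * (k * g * k⁻¹) ≠ 1 := fun k e => hsq (conj_eq_one_iff.1
    (show k * (g * g) * k⁻¹ = 1 by rw [← e]; group))
  by_cases h : ∃ p : ℕ, p.Prime ∧ p ∣ orderOf g ∧ (p ∣ c.q - 1 ∨ p ∣ c.q + 1)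
  · obtain ⟨p, hp, hpg, hd⟩ := h
    have hp3 : p ≠ 3 := by rintro rfl; exact h3 hpg
    obtain ⟨v, hv2, hv1, hgv⟩ := c.exists_invol hp hp3 hpg hd
    rcases c.invol_class hv2 hv1 hgv with h6 | ⟨k, hk⟩ | ⟨k, hk⟩
    · exfalso
      apply hsq
      have h1 : orderOf g ∣ 2 := (Nat.Coprime.dvd_of_dvd_mul_right
        ((Nat.prime_three.coprime_iff_not_dvd).2 h3).symm (show orderOf g ∣ 2 * 3 from orderOf_dvd_of_pow_eq_one h6))
      rw [← pow_two]
      exact orderOf_dvd_iff_pow_eq_one.1 h1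
    · exact Or.inr (Or.inl ⟨k⁻¹, _, hk, sq_conj k, by group⟩)
    · exact Or.inl ⟨k⁻¹, _, hk, sq_conj k, by group⟩
  · refine Or.inr (Or.inr ?_)
    push Not at h
    have hd : orderOf g ∣ c.q ^ 3 * (c.q - 1) * ((c.q + 1) * (c.a * c.b)) := by
      rw [← c.cube_add_one, ← c.cardG]; exact orderOf_dvd_natCard g
    have c1 : Nat.Coprime (orderOf g) (c.q ^ 3) := (c.cop_q3 dvd_rfl h3).symm
    have c2 : Nat.Coprime (orderOf g) (c.q - 1) := Nat.coprime_of_dvd fun p hp a b => (h p hp a).1 b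
    have c3 : Nat.Coprime (orderOf g) (c.q + 1) := Nat.coprime_of_dvd fun p hp a b => (h p hp a).2 b
    exact c3.dvd_of_dvd_mul_left ((c1.mul_right c2).dvd_of_dvd_mul_left hd)

/-- conjugates of regular elements of the split torus -/
theorem card_TH : Nat.card {y : G | ∃ k, ∃ h ∈ c.H, h * h ≠ 1 ∧ k * h * k⁻¹ = y} * (2 * (c.q - 1)) =
    Nat.card G * (c.q - 3) := by
  have h := card_conjSet {h : G | h ∈ c.H ∧ h * h ≠ 1} (Subgroup.normalizer (c.H : Set G))
    (fun k hk x hx => ⟨(Subgroup.mem_normalizer_iff.1 hk x).1 hx.1, fun e => hx.2 (conj_eq_one_iff.1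
      (show k * (x * x) * k⁻¹ = 1 by rw [← e]; group))⟩)
    (fun g x hx hgx => (c.mem_norm_H hx.1 hx.2 hgx.1).1)
  rw [c.card_norm_H, show Nat.card {h : G | h ∈ c.H ∧ h * h ≠ 1} = c.q - 3 from c.card_regular] at h
  rw [← h]
  congr 2
  simp only [Set.mem_setOf_eq, and_assoc]

theorem sq_mem_A₁ {x : G} (hx : x ∈ c.M) : x * x ∈ c.A₁ :=
  ⟨mul_mem hx hx, by rw [← pow_two, ← pow_mul]; exact c.M_pow hx⟩

/-- conjugates of regular elements of `M` -/
theorem card_T1 : Nat.card {y : G | ∃ k, ∃ x ∈ c.M, x * x ≠ 1 ∧ k * x * k⁻¹ = y} * (6 * (c.q + 1)) =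
    Nat.card G * (c.q - 3) := by
  have hX : Nat.card {x : G | x ∈ c.M ∧ x * x ≠ 1} = c.q - 3 := by
    have e : (c.M : Set G) = {x : G | x ∈ c.M ∧ x * x ≠ 1} ∪ ({1} ∪ c.invM) := by
      ext g
      simp only [SetLike.mem_coe, Set.mem_union, Set.mem_setOf_eq, Set.mem_singleton_iff, invM]
      constructor
      · intro hg
        by_cases h : g * g = 1
        · by_cases h1 : g = 1
          · exact Or.inr (Or.inl h1)
          · exact Or.inr (Or.inr ⟨hg, h, h1⟩)
        · exact Or.inl ⟨hg, h⟩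
      · rintro (h | rfl | h)
        exacts [h.1, one_mem _, h.1]
    have d1 : Disjoint {x : G | x ∈ c.M ∧ x * x ≠ 1} ({1} ∪ c.invM) := Set.disjoint_left.2 fun g hg => by
      rintro (h | h)
      · rw [Set.mem_singleton_iff] at h; exact hg.2 (by rw [h, one_mul])
      · exact hg.2 h.2.1
    have d2 : Disjoint ({1} : Set G) c.invM := Set.disjoint_singleton_left.2 fun h => h.2.2 rfl
    have hc : (c.M : Set G).ncard = c.q + 1 := by rw [← c.card_M]; exact (Nat.card_coe_set_eq _).symm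
    rw [e, Set.ncard_union_eq d1 (Set.toFinite _) (Set.toFinite _),
      Set.ncard_union_eq d2 (Set.toFinite _) (Set.toFinite _), Set.ncard_singleton, c.card_invM] at hc
    rw [Nat.card_coe_set_eq]
    omega
  have h := card_conjSet {x : G | x ∈ c.M ∧ x * x ≠ 1} (Subgroup.normalizer (c.M : Set G))
    (fun k hk x hx => ⟨(Subgroup.mem_normalizer_iff.1 hk x).1 hx.1, fun e => hx.2 (conj_eq_one_iff.1
      (show k * (x * x) * k⁻¹ = 1 by rw [← e]; group))⟩)
    (fun g x hx hgx => by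
      have hy := c.sq_mem_A₁ hgx.1
      have hne : g * x * g⁻¹ * (g * x * g⁻¹) ≠ 1 := hgx.2
      have key : ∀ m ∈ c.M, g * m * g⁻¹ ∈ c.M := fun m hm => (c.cent_eq hy.1 hy.2 hne _).1 (by
        calc g * m * g⁻¹ * (g * x * g⁻¹ * (g * x * g⁻¹)) = g * (m * (x * x)) * g⁻¹ := by group
          _ = g * (x * x * m) * g⁻¹ := by rw [c.M_comm hm (mul_mem hx.1 hx.1)]
          _ = g * x * g⁻¹ * (g * x * g⁻¹) * (g * m * g⁻¹) := by group)
      have hmap : c.M.map (MulAut.conj g).toMonoidHom = c.M := Subgroup.eq_of_le_of_card_ge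
        (by rintro _ ⟨m, hm, rfl⟩; exact key m hm)
        (by rw [Subgroup.card_map_of_injective (MulAut.conj g).injective])
      rw [Subgroup.mem_normalizer_iff]
      intro m
      refine ⟨key m, fun hm => ?_⟩
      obtain ⟨m', hm', e⟩ : g * m * g⁻¹ ∈ c.M.map (MulAut.conj g).toMonoidHom := by rw [hmap]; exact hm
      simp at e
      exact e ▸ hm')
  rw [c.card_norm_M, hX] at h
  rw [← h]
  congr 2
  simp only [Set.mem_setOf_eq, and_assoc]

theorem card_invol : Nat.card {y : G | y * y = 1 ∧ y ≠ 1} * (c.q * (c.q ^ 2 - 1)) = Nat.card G := by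
  have h := card_conjSet ({c.z} : Set G) (Subgroup.centralizer ({c.z} : Set G))
    (fun k hk x hx => by
      rw [Set.mem_singleton_iff] at hx ⊢
      rw [hx, mem_cent.1 hk, mul_inv_cancel_right])
    (fun g x hx hgx => by
      rw [Set.mem_singleton_iff] at hx hgx
      rw [hx] at hgx
      exact mem_cent.2 (mul_inv_eq_iff_eq_mul.1 hgx))
  rw [c.card_cz, Nat.card_coe_set_eq ({c.z} : Set G), Set.ncard_singleton, mul_one] at h
  rw [← h]
  refine congrArg (· * _) (congrArg (fun S : Set G => Nat.card S) ?_)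
  ext y
  constructor
  · rintro ⟨h2, h1⟩
    obtain ⟨k, hk⟩ := c.invol y h2 h1
    exact ⟨k, c.z, rfl, hk⟩
  · rintro ⟨k, x, hx, rfl⟩
    rw [Set.mem_singleton_iff] at hx
    subst hx
    refine ⟨?_, fun h => c.hz1 (conj_eq_one_iff.1 h)⟩
    rw [show k * c.z * k⁻¹ * (k * c.z * k⁻¹) = k * (c.z * c.z) * k⁻¹ by group, c.hz]; group

end Data

end Cfsg.Agent.Lib.ReeTori
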