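import Cfsg.Agent.Lib.ReeTori.Classes

/-!
The elements outside the centralisers of involutions and the normalisers of Sylow 3-subgroups.
-/

set_option autoImplicit false

namespace Cfsg.Agent.Lib.ReeTori

theorem five_residue : ∀ x : ZMod 5, x ≠ x * x + 1 := by decide

namespace Data

variable {G L : Type*} [Group G] [Finite G] [Group L] [Finite L] (c : Data G L)

omit [Finite G] [Finite L] in
theorem ab_pos : 49 ≤ c.a * c.b := Nat.mul_le_mul c.ha c.hb

omit [Finite G] [Finite L] in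
theorem ab_prime {p : ℕ} (hp : p.Prime) (hd : p ∣ c.a * c.b) :
    5 ≤ p ∧ ¬ p ∣ c.q - 1 ∧ ¬ p ∣ c.q + 1 ∧ ¬ p ∣ c.q := by
  haveI : Fact p.Prime := ⟨hp⟩
  have h0 : ((c.a * c.b : ℕ) : ZMod p) = 0 := (ZMod.natCast_eq_zero_iff _ _).2 hd
  have e := congrArg (fun n : ℕ => (n : ZMod p)) c.hab
  push_cast at e h0
  rw [h0, zero_add] at e
  have hq := c.hq27
  have h2 : p ≠ 2 := by
    rintro rfl
    have hodd : Odd (c.a * c.b) := by
      have := c.hab
      have := c.q_facts.2.1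
      rw [Nat.odd_iff] at *
      have hqq : (c.q * c.q) % 2 = 1 := by rw [Nat.mul_mod, this]
      omega
    rw [Nat.odd_iff] at hodd
    omega
  have hq0 : ¬ p ∣ c.q := fun h => by
    have hz : ((c.q : ℕ) : ZMod p) = 0 := (ZMod.natCast_eq_zero_iff _ _).2 h
    rw [hz] at e
    simp at e
  have h3 : p ≠ 3 := by
    rintro rfl
    exact hq0 (Nat.dvd_of_mod_eq_zero c.q_facts.2.2.2.2.1)
  refine ⟨?_, fun h => ?_, fun h => ?_, hq0⟩
  · have := hp.two_le
    by_contra hlt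
    interval_cases p
    · exact h2 rfl
    · exact h3 rfl
    · exact absurd hp (by decide)
  · have hz : ((c.q - 1 : ℕ) : ZMod p) = 0 := (ZMod.natCast_eq_zero_iff _ _).2 h
    rw [Nat.cast_sub (by omega), Nat.cast_one, sub_eq_zero] at hz
    rw [hz] at e
    have : (1 : ZMod p) = 0 := by linear_combination -e
    exact one_ne_zero this
  · have hz : ((c.q + 1 : ℕ) : ZMod p) = 0 := (ZMod.natCast_eq_zero_iff _ _).2 h
    push_cast at hz
    rw [eq_neg_of_add_eq_zero_left hz] at e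
    have : ((3 : ℕ) : ZMod p) = 0 := by push_cast; linear_combination -e
    exact h3 ((Nat.prime_dvd_prime_iff_eq hp Nat.prime_three).1 ((ZMod.natCast_eq_zero_iff 3 p).1 this))

omit [Finite G] [Finite L] in
theorem ab_cop {d : ℕ} (hd : d ∣ c.q ^ 3 * (c.q - 1) ∨ d ∣ c.q * (c.q ^ 2 - 1) ∨ d ∣ c.q + 1) :
    Nat.Coprime (c.a * c.b) d := by
  refine Nat.coprime_of_dvd fun p hp h1 h2 => ?_
  obtain ⟨-, hm, hpl, hq⟩ := c.ab_prime hp h1
  rcases hd with h | h | h
  · rcases hp.dvd_mul.1 (h2.trans h) with h | h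
    · exact hq (hp.dvd_of_dvd_pow h)
    · exact hm h
  · rcases hp.dvd_mul.1 (h2.trans h) with h | h
    · exact hq h
    · rw [show c.q ^ 2 - 1 = (c.q + 1) * (c.q - 1) by
        have := Nat.sq_sub_sq c.q 1; simpa using this] at h
      rcases hp.dvd_mul.1 h with h | h
      · exact hpl h
      · exact hm h
  · exact hpl (h2.trans h)

/-- Elements outside. -/
def IsFree (g : G) : Prop := g ≠ 1 ∧ orderOf g ∣ c.a * c.b

theorem cent_free_prime {p : ℕ} (hp : p.Prime) (hd : p ∣ c.a * c.b) {x : G} (hx : orderOf x = p) {g : G}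
    (hg : g * x = x * g) : orderOf g ∣ c.a * c.b := by
  have hno : ∀ (k : G) (d : ℕ), orderOf (k⁻¹ * x * k) ∣ d →
      (d ∣ c.q ^ 3 * (c.q - 1) ∨ d ∣ c.q * (c.q ^ 2 - 1) ∨ d ∣ c.q + 1) → False := by
    intro k d h1 h2
    have ho : orderOf (k⁻¹ * x * k) = p := by
      have := orderOf_conj_eq k⁻¹ x
      rw [inv_inv] at this
      rw [this, hx]
    rw [ho] at h1
    exact hp.ne_one (Nat.eq_one_of_dvd_coprimes (c.ab_cop h2) hd h1)
  have hxc : ∀ {k v : G}, (k * v * k⁻¹) * x = x * (k * v * k⁻¹) → k⁻¹ * x * k * v = v * (k⁻¹ * x * k) := by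
    intro k v e
    calc k⁻¹ * x * k * v = k⁻¹ * (x * (k * v * k⁻¹)) * k := by group
      _ = k⁻¹ * (k * v * k⁻¹ * x) * k := by rw [e]
      _ = v * (k⁻¹ * x * k) := by group
  by_cases h3 : 3 ∣ orderOf g
  · exfalso
    set y := g ^ (orderOf g / 3)
    have ho : orderOf y = 3 := orderOf_pow_orderOf_div (orderOf_pos g).ne' h3
    obtain ⟨k, -, hk⟩ := c.conj_B_of_three ho
    have hB := hk x ((Commute.symm (hg : Commute g x)).pow_right _).eq
    exact hno k _ (Subgroup.orderOf_dvd_natCard c.B hB) (Or.inl (by rw [c.card_B]))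
  rcases c.classify h3 with h | ⟨k, h, hh, h2, rfl⟩ | ⟨k, y, hy, h2, rfl⟩ | h
  · by_cases h1 : g = 1
    · subst h1; simp
    exfalso
    obtain ⟨k, rfl⟩ := c.invol g h h1
    exact hno k _ (Subgroup.orderOf_dvd_natCard _ (mem_cent.2 (hxc hg))) (Or.inr (Or.inl (by rw [c.card_cz])))
  · exfalso
    have hc' := hxc hg
    have hn := c.mem_norm_H (g := k⁻¹ * x * k) hh h2 (by rw [mul_inv_eq_iff_eq_mul.2 hc']; exact hh)
    exact hno k _ (Subgroup.orderOf_dvd_natCard _ (mem_cent.2 hn.2)) (Or.inr (Or.inl (by rw [c.card_cz])))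
  · exfalso
    have hc' := hxc hg
    have hy2 := c.sq_mem_A₁ hy
    have hm := (c.cent_eq hy2.1 hy2.2 h2 (k⁻¹ * x * k)).1
      ((show Commute (k⁻¹ * x * k) y from hc').mul_right hc').eq
    exact hno k _ (Subgroup.orderOf_dvd_natCard c.M hm) (Or.inr (Or.inr (by rw [c.card_M])))
  · exact h

theorem cent_prime {p : ℕ} (hp : p.Prime) (hd : p ∣ c.a * c.b) {x : G} (hx : orderOf x = p) :
    IsCyclic (Subgroup.centralizer ({x} : Set G)) ∧
      ∃ n, n ∣ 6 ∧ Nat.card (Subgroup.normalizer ((Subgroup.centralizer ({x} : Set G)) : Set G)) =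
        n * Nat.card (Subgroup.centralizer ({x} : Set G)) :=
  c.free p hp hd x hx fun g hg => ((c.ab_cop (d := c.q - 1) (Or.inl (dvd_mul_left _ _))).coprime_dvd_left
    (c.cent_free_prime hp hd hx (mem_cent.1 hg)))

variable {c}

theorem IsFree.prime_power {g : G} (hg : c.IsFree g) :
    ∃ (j p : ℕ), p.Prime ∧ p ∣ c.a * c.b ∧ orderOf (g ^ j) = p := by
  obtain ⟨p, hp, hd⟩ := Nat.exists_prime_and_dvd (fun e => hg.1 (orderOf_eq_one_iff.1 e) : orderOf g ≠ 1)
  exact ⟨_, p, hp, hd.trans hg.2, orderOf_pow_orderOf_div (orderOf_pos g).ne' hd⟩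

theorem IsFree.cent_le {g : G} (j : ℕ) :
    Subgroup.centralizer ({g} : Set G) ≤ Subgroup.centralizer ({g ^ j} : Set G) := fun _ hy =>
  mem_cent.2 (Commute.pow_right (show Commute _ g from mem_cent.1 hy) j).eq

theorem IsFree.cyclic {g : G} (hg : c.IsFree g) : IsCyclic (Subgroup.centralizer ({g} : Set G)) := by
  obtain ⟨j, p, hp, hd, ho⟩ := hg.prime_power
  haveI := (c.cent_prime hp hd ho).1
  exact isCyclic_of_injective (Subgroup.inclusion (IsFree.cent_le j)) (Subgroup.inclusion_injective _)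

theorem IsFree.mem_dvd {g : G} (hg : c.IsFree g) {y : G} (hy : y ∈ Subgroup.centralizer ({g} : Set G)) :
    orderOf y ∣ c.a * c.b := by
  obtain ⟨j, p, hp, hd, ho⟩ := hg.prime_power
  exact c.cent_free_prime hp hd ho (mem_cent.1 (IsFree.cent_le j hy))

theorem IsFree.cent_eq_cent {g : G} (hg : c.IsFree g) {y : G} (hy : y ∈ Subgroup.centralizer ({g} : Set G))
    (hy1 : y ≠ 1) :
    c.IsFree y ∧ Subgroup.centralizer ({y} : Set G) = Subgroup.centralizer ({g} : Set G) := by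
  have hyf : c.IsFree y := ⟨hy1, hg.mem_dvd hy⟩
  refine ⟨hyf, ?_⟩
  haveI := hg.cyclic
  haveI := hyf.cyclic
  apply le_antisymm <;> intro u hu
  · letI := IsCyclic.commGroup (α := Subgroup.centralizer ({y} : Set G))
    exact mem_cent.2 (congrArg Subtype.val (mul_comm (⟨u, hu⟩ : Subgroup.centralizer ({y} : Set G))
      ⟨g, mem_cent.2 (mem_cent.1 hy).symm⟩))
  · letI := IsCyclic.commGroup (α := Subgroup.centralizer ({g} : Set G))
    exact mem_cent.2 (congrArg Subtype.val (mul_comm (⟨u, hu⟩ : Subgroup.centralizer ({g} : Set G)) ⟨y, hy⟩))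

theorem IsFree.self_mem {g : G} : g ∈ Subgroup.centralizer ({g} : Set G) := mem_cent.2 rfl

theorem IsFree.card_facts {g : G} (hg : c.IsFree g) :
    Nat.card (Subgroup.centralizer ({g} : Set G)) ∣ c.a * c.b ∧
      7 ≤ Nat.card (Subgroup.centralizer ({g} : Set G)) ∧
      ∃ n, n ∣ 6 ∧ Nat.card (Subgroup.normalizer ((Subgroup.centralizer ({g} : Set G)) : Set G)) =
        n * Nat.card (Subgroup.centralizer ({g} : Set G)) := by
  haveI := hg.cyclic
  obtain ⟨s, hs⟩ := IsCyclic.exists_ofOrder_eq_natCard (α := Subgroup.centralizer ({g} : Set G))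
  have hd : Nat.card (Subgroup.centralizer ({g} : Set G)) ∣ c.a * c.b := by
    rw [← hs, ← Subgroup.orderOf_coe]; exact hg.mem_dvd s.2
  obtain ⟨j, p, hp, hpd, ho⟩ := hg.prime_power
  have hne : g ^ j ≠ 1 := fun e => by rw [e, orderOf_one] at ho; exact hp.ne_one ho.symm
  have hjmem : g ^ j ∈ Subgroup.centralizer ({g} : Set G) := mem_cent.2 ((Commute.refl g).pow_left j).eq
  refine ⟨hd, ?_, ?_⟩
  · have h1 : p ∣ Nat.card (Subgroup.centralizer ({g} : Set G)) := ho ▸ Subgroup.orderOf_dvd_natCard _ hjmem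
    have h5 := (c.ab_prime hp hpd).1
    have hp7 : 7 ≤ p := by
      by_contra hlt
      have hp5 : p = 5 := by
        interval_cases p
        · rfl
        · exact absurd hp (by decide)
      subst hp5
      haveI : Fact (Nat.Prime 5) := ⟨hp⟩
      -- five does not divide `q² - q + 1`
      have h0 : ((c.a * c.b : ℕ) : ZMod 5) = 0 := (ZMod.natCast_eq_zero_iff _ _).2 hpd
      have e := congrArg (fun n : ℕ => (n : ZMod 5)) c.hab
      push_cast at e h0
      rw [h0, zero_add] at e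
      exact five_residue _ e
    exact hp7.trans (Nat.le_of_dvd Nat.card_pos h1)
  · rw [← (hg.cent_eq_cent hjmem hne).2]
    exact (c.cent_prime hp hpd ho).2

variable (c)

/-- the elements with centraliser conjugate to that of `g` -/
def cls (g : G) : Set G := {y | ∃ k, ∃ u ∈ Subgroup.centralizer ({g} : Set G), u ≠ 1 ∧ k * u * k⁻¹ = y}

variable {c}

theorem IsFree.conj {g : G} (hg : c.IsFree g) (k : G) : c.IsFree (k * g * k⁻¹) :=
  ⟨fun e => hg.1 (conj_eq_one_iff.1 e), by rw [orderOf_conj_eq]; exact hg.2⟩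

theorem IsFree.cls_free {g : G} (hg : c.IsFree g) {y : G} (hy : y ∈ cls g) : c.IsFree y := by
  obtain ⟨k, u, hu, hu1, rfl⟩ := hy
  exact (hg.cent_eq_cent hu hu1).1.conj k

theorem IsFree.cls_eq {g g' : G} (hg : c.IsFree g) (hg' : c.IsFree g') {y : G} (h : y ∈ cls g)
    (h' : y ∈ cls g') : g' ∈ cls g := by
  obtain ⟨k, u, hu, hu1, e⟩ := h
  obtain ⟨k', u', hu', hu1', e'⟩ := h'
  have h1 := (hg.cent_eq_cent hu hu1).2
  have h2 := (hg'.cent_eq_cent hu' hu1').2
  have hmem : g' ∈ Subgroup.centralizer ({u'} : Set G) := by rw [h2]; exact IsFree.self_mem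
  have hu'eq : u' = (k'⁻¹ * k) * u * (k'⁻¹ * k)⁻¹ := by
    calc u' = k'⁻¹ * (k' * u' * k'⁻¹) * k' := by group
      _ = k'⁻¹ * (k * u * k⁻¹) * k' := by rw [e', e]
      _ = (k'⁻¹ * k) * u * (k'⁻¹ * k)⁻¹ := by group
  rw [hu'eq, cent_conj, h1] at hmem
  exact ⟨k'⁻¹ * k, _, hmem, fun e => hg'.1 (by
    calc g' = (k'⁻¹ * k) * ((k'⁻¹ * k)⁻¹ * g' * (k'⁻¹ * k)) * (k'⁻¹ * k)⁻¹ := by group
      _ = 1 := by rw [e]; group), by group⟩

theorem IsFree.card_cls {g : G} (hg : c.IsFree g) :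
    Nat.card (cls g) * Nat.card (Subgroup.normalizer ((Subgroup.centralizer ({g} : Set G)) : Set G)) =
      Nat.card G * (Nat.card (Subgroup.centralizer ({g} : Set G)) - 1) := by
  set C := Subgroup.centralizer ({g} : Set G) with hC
  have h := card_conjSet {u : G | u ∈ C ∧ u ≠ 1} (Subgroup.normalizer (C : Set G))
    (fun k hk x hx => ⟨(Subgroup.mem_normalizer_iff.1 hk x).1 hx.1, fun e => hx.2 (conj_eq_one_iff.1 e)⟩)
    (fun k x hx hkx => by
      have h1 := (hg.cent_eq_cent hx.1 hx.2).2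
      have h2 := (hg.cent_eq_cent hkx.1 hkx.2).2
      rw [Subgroup.mem_normalizer_iff]
      intro m
      rw [hC]
      conv_rhs => rw [← h2, cent_conj, show k⁻¹ * (k * m * k⁻¹) * k = m by group, h1])
  rw [show Nat.card {u : G | u ∈ C ∧ u ≠ 1} = Nat.card C - 1 by
    rw [Nat.card_coe_set_eq]
    have e : {u : G | u ∈ C ∧ u ≠ 1} = (C : Set G) \ {1} := by ext; simp
    rw [e, Set.ncard_diff_singleton_of_mem (one_mem C)]
    exact congrArg (· - 1) (Nat.card_coe_set_eq (C : Set G)).symm] at h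
  rw [← h]
  congr 2
  simp only [cls, Set.mem_setOf_eq, and_assoc]
  rfl

variable (c)

theorem card_free : Nat.card {g : G | c.IsFree g} * (3 * (c.a * c.b)) =
    Nat.card G * (c.a * c.b - (c.q + 1)) := by
  classical
  set A3 : Set G := {g | 3 ∣ orderOf g}
  set AI : Set G := {y | y * y = 1 ∧ y ≠ 1}
  set AH : Set G := {y | ∃ k, ∃ h ∈ c.H, h * h ≠ 1 ∧ k * h * k⁻¹ = y}
  set AT : Set G := {y | ∃ k, ∃ x ∈ c.M, x * x ≠ 1 ∧ k * x * k⁻¹ = y}
  set AF : Set G := {g | c.IsFree g}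
  have hq := c.hq27
  have hH : ∀ y ∈ AH, orderOf y ∣ c.q - 1 ∧ y * y ≠ 1 := by
    rintro _ ⟨k, h, hh, h2, rfl⟩
    exact ⟨by rw [orderOf_conj_eq, ← c.cardH]; exact Subgroup.orderOf_dvd_natCard _ hh,
      fun e => h2 (conj_eq_one_iff.1 (show k * (h * h) * k⁻¹ = 1 by rw [← e]; group))⟩
  have hT : ∀ y ∈ AT, orderOf y ∣ c.q + 1 ∧ y * y ≠ 1 := by
    rintro _ ⟨k, x, hx, h2, rfl⟩
    exact ⟨by rw [orderOf_conj_eq, ← c.card_M]; exact Subgroup.orderOf_dvd_natCard _ hx,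
      fun e => h2 (conj_eq_one_iff.1 (show k * (x * x) * k⁻¹ = 1 by rw [← e]; group))⟩
  have hsq : ∀ y : G, y * y = 1 → orderOf y ∣ 2 := fun y h => orderOf_dvd_of_pow_eq_one (by rw [pow_two, h])
  have h3q : ¬ 3 ∣ c.q + 1 := by have := c.q_facts; omega
  have u : (Set.univ : Set G) = {1} ∪ (A3 ∪ (AI ∪ (AH ∪ (AT ∪ AF)))) := by
    ext g
    simp only [Set.mem_univ, true_iff, Set.mem_union, Set.mem_singleton_iff]
    by_cases h1 : g = 1
    · exact Or.inl h1
    right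
    by_cases h3 : 3 ∣ orderOf g
    · exact Or.inl h3
    right
    rcases c.classify h3 with h | h | h | h
    exacts [Or.inl ⟨h, h1⟩, Or.inr (Or.inl h), Or.inr (Or.inr (Or.inl h)), Or.inr (Or.inr (Or.inr ⟨h1, h⟩))]
  have hab1 : ∀ d, (d ∣ c.q ^ 3 * (c.q - 1) ∨ d ∣ c.q * (c.q ^ 2 - 1) ∨ d ∣ c.q + 1) → ∀ y ∈ AF,
      orderOf y ∣ d → False := fun d hd y hy h =>
    hy.1 (orderOf_eq_one_iff.1 (Nat.eq_one_of_dvd_coprimes (c.ab_cop hd) hy.2 h))
  have d0 : Disjoint ({1} : Set G) (A3 ∪ (AI ∪ (AH ∪ (AT ∪ AF)))) := Set.disjoint_singleton_left.2 (by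
    rintro (h | h | h | h | h)
    · simp [A3] at h
    · exact h.2 rfl
    · exact (hH _ h).2 (one_mul 1)
    · exact (hT _ h).2 (one_mul 1)
    · exact h.1 rfl)
  have d1 : Disjoint A3 (AI ∪ (AH ∪ (AT ∪ AF))) := Set.disjoint_left.2 fun g h3 => by
    have h3' : 3 ∣ orderOf g := h3
    rintro (h | h | h | h)
    · exact absurd (h3'.trans (hsq g h.1)) (by norm_num)
    · exact c.q1_not_three (h3'.trans (hH _ h).1)
    · exact h3q (h3'.trans (hT _ h).1)
    · obtain ⟨k, hk⟩ := c.hq3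
      have hk0 : k ≠ 0 := by rintro rfl; rw [pow_zero] at hk; omega
      have h3ab := h3'.trans h.2
      have : Nat.Coprime (c.a * c.b) 3 := c.ab_cop (Or.inl (dvd_mul_of_dvd_left
        (dvd_pow (hk ▸ dvd_pow_self 3 hk0) (by decide)) _))
      exact absurd (Nat.eq_one_of_dvd_coprimes this h3ab dvd_rfl) (by decide)
  have d2 : Disjoint AI (AH ∪ (AT ∪ AF)) := Set.disjoint_left.2 fun g hg => by
    rintro (h | h | h)
    · exact (hH _ h).2 hg.1
    · exact (hT _ h).2 hg.1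
    · exact hab1 2 (Or.inr (Or.inr (by have := c.q_facts.2.2.1; omega))) g h (hsq g hg.1)
  have d3 : Disjoint AH (AT ∪ AF) := Set.disjoint_left.2 fun g hg => by
    rintro (h | h)
    · apply (hH g hg).2
      have := Nat.dvd_sub (hT g h).1 (hH g hg).1
      rw [show c.q + 1 - (c.q - 1) = 2 by omega] at this
      rw [← pow_two]
      exact orderOf_dvd_iff_pow_eq_one.1 this
    · exact hab1 _ (Or.inl (dvd_mul_left _ _)) g h (hH g hg).1
  have d4 : Disjoint AT AF := Set.disjoint_left.2 fun g hg h =>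
    hab1 _ (Or.inr (Or.inr dvd_rfl)) g h (hT g hg).1
  have htot := congrArg Set.ncard u
  rw [Set.ncard_univ, Set.ncard_union_eq d0 (Set.toFinite _) (Set.toFinite _),
    Set.ncard_union_eq d1 (Set.toFinite _) (Set.toFinite _),
    Set.ncard_union_eq d2 (Set.toFinite _) (Set.toFinite _),
    Set.ncard_union_eq d3 (Set.toFinite _) (Set.toFinite _),
    Set.ncard_union_eq d4 (Set.toFinite _) (Set.toFinite _), Set.ncard_singleton,
    ← Nat.card_coe_set_eq A3, ← Nat.card_coe_set_eq AI, ← Nat.card_coe_set_eq AH, ← Nat.card_coe_set_eq AT,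
    ← Nat.card_coe_set_eq AF] at htot
  have e3 := c.card_three
  rw [c.card_B] at e3
  have eX := c.card_three_B
  have eI := c.card_invol
  have eH := c.card_TH
  have eT := c.card_T1
  have hG := c.cardG
  have hab := c.hab
  generalize Nat.card {g : G | g ∈ c.B ∧ 3 ∣ orderOf g} = X at e3 eX
  change Nat.card A3 * _ = _ at e3
  change Nat.card AI * _ = _ at eI
  change Nat.card AH * _ = _ at eH
  change Nat.card AT * _ = _ at eT
  generalize Nat.card A3 = n3 at *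
  generalize Nat.card AI = nI at *
  generalize Nat.card AH = nH at *
  generalize Nat.card AT = nT at *
  generalize Nat.card AF = nF at *
  generalize Nat.card G = N at *
  generalize c.a * c.b = P at *
  generalize c.q = q at *
  have hP : q + 1 ≤ P := by nlinarith
  have q1 : 1 ≤ q := by omega
  have q3 : 3 ≤ q := by omega
  have q2 : 1 ≤ q ^ 2 := Nat.one_le_pow _ _ (by omega)
  apply Nat.cast_injective (R := ℚ)
  apply_fun (fun n : ℕ => (n : ℚ)) at htot e3 eX eI eH eT hG hab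
  simp only [Nat.cast_add, Nat.cast_mul, Nat.cast_pow, Nat.cast_ofNat, Nat.cast_one, Nat.cast_sub q1,
    Nat.cast_sub q3, Nat.cast_sub q2, Nat.cast_sub hP] at *
  have hq' : (27 : ℚ) ≤ q := by exact_mod_cast hq
  have n1 : (q : ℚ) ≠ 0 := by linarith
  have n2 : (q : ℚ) - 1 ≠ 0 := by linarith
  have n3' : (q : ℚ) + 1 ≠ 0 := by linarith
  have n4 : (q : ℚ) ^ 2 - 1 ≠ 0 := by nlinarith
  have hX : (X : ℚ) = 2 * q ^ 3 - q ^ 2 - 1 := by linarith
  have a3 : (n3 : ℚ) = N * X / (q ^ 3 * (q - 1)) := by rw [eq_div_iff (mul_ne_zero (pow_ne_zero 3 n1) n2)]; linarith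
  have aI : (nI : ℚ) = N / (q * (q ^ 2 - 1)) := by rw [eq_div_iff (mul_ne_zero n1 n4)]; linarith
  have aH : (nH : ℚ) = N * (q - 3) / (2 * (q - 1)) := by
    rw [eq_div_iff (mul_ne_zero two_ne_zero n2)]; linarith
  have aT : (nT : ℚ) = N * (q - 3) / (6 * (q + 1)) := by
    rw [eq_div_iff (mul_ne_zero (by norm_num) n3')]; linarith
  have hP' : (P : ℚ) = q * q + 1 - q := by linarith
  have hF : (nF : ℚ) = N - 1 - n3 - nI - nH - nT := by linarith
  rw [hF, a3, aI, aH, aT, hX, hP', hG]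
  field_simp
  ring

theorem cent_eq_of_sylow {p : ℕ} [Fact p.Prime] (hd : p ∣ c.a * c.b) (P : Sylow p G) :
    ∃ x, orderOf x = p ∧ (P : Subgroup G) ≤ Subgroup.centralizer ({x} : Set G) := by
  have hdG : p ∣ Nat.card G := hd.trans (by rw [c.cardG, c.cube_add_one]; exact Dvd.intro_left _ (mul_assoc _ _ _))
  haveI : Nontrivial (P : Subgroup G) := (Subgroup.nontrivial_iff_ne_bot _).2 (P.ne_bot_of_dvd_card hdG)
  haveI : Nontrivial (Subgroup.center (P : Subgroup G)) := P.2.center_nontrivial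
  obtain ⟨z, hz⟩ := exists_prime_orderOf_dvd_card' (G := Subgroup.center (P : Subgroup G)) p (by
    obtain ⟨n, hn, he⟩ := (P.2.to_subgroup (Subgroup.center (P : Subgroup G))).nontrivial_iff_card.1 inferInstance
    rw [he]
    exact dvd_pow_self p (by omega))
  refine ⟨z.1.1, by rw [Subgroup.orderOf_coe, Subgroup.orderOf_coe, hz], fun u hu => mem_cent.2 ?_⟩
  exact congrArg Subtype.val (Subgroup.mem_center_iff.1 z.2 ⟨u, hu⟩)

theorem cls_of_common {g g' : G} (hg : c.IsFree g) (hg' : c.IsFree g') {p : ℕ} (hp : p.Prime)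
    (h : p ∣ Nat.card (Subgroup.centralizer ({g} : Set G)))
    (h' : p ∣ Nat.card (Subgroup.centralizer ({g'} : Set G))) : g' ∈ cls g := by
  haveI : Fact p.Prime := ⟨hp⟩
  have hd : p ∣ c.a * c.b := h.trans hg.card_facts.1
  obtain ⟨P⟩ := (inferInstance : Nonempty (Sylow p G))
  obtain ⟨y, hy, hP⟩ := c.cent_eq_of_sylow hd P
  have hyf : c.IsFree y := ⟨fun e => by rw [e, orderOf_one] at hy; exact hp.ne_one hy.symm, hy ▸ hd⟩
  have key : ∀ {g : G}, c.IsFree g → p ∣ Nat.card (Subgroup.centralizer ({g} : Set G)) → g ∈ cls y := by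
    intro g hg h
    obtain ⟨s, hs⟩ := exists_prime_orderOf_dvd_card' (G := Subgroup.centralizer ({g} : Set G)) p h
    rw [← Subgroup.orderOf_coe] at hs
    have hs1 : s.1 ≠ 1 := fun e => by rw [e, orderOf_one] at hs; exact hp.ne_one hs.symm
    obtain ⟨k, hk⟩ := conj_elem_into hs P.not_dvd_index
    obtain ⟨hsf, hse⟩ := hg.cent_eq_cent s.2 hs1
    have hk1 : k⁻¹ * s.1 * k ≠ 1 := fun e => hs1 (by
      calc s.1 = k * (k⁻¹ * s.1 * k) * k⁻¹ := by group
        _ = 1 := by rw [e]; group)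
    have hmem : s.1 ∈ cls y := ⟨k, _, hP hk, hk1, by group⟩
    exact hyf.cls_eq hg hmem ⟨1, s.1, s.2, hs1, by group⟩
  have hgy : y ∈ cls g := by
    obtain ⟨l, v, hv, hv1, e'⟩ := key hg h
    refine ⟨l⁻¹, l * y * l⁻¹, mem_cent.2 ?_, fun e'' => hyf.1 (conj_eq_one_iff.1 e''), by group⟩
    calc l * y * l⁻¹ * g = l * (y * v) * l⁻¹ := by rw [← e']; group
      _ = l * (v * y) * l⁻¹ := by rw [mem_cent.1 hv]
      _ = g * (l * y * l⁻¹) := by rw [← e']; group
  obtain ⟨k, u, hu, hu1, e⟩ := key hg' h'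
  obtain ⟨l, v, hv, hv1, e'⟩ := hgy
  obtain ⟨-, hve⟩ := hg.cent_eq_cent hv hv1
  refine ⟨k * l, l⁻¹ * u * l, ?_, fun e'' => hu1 (by
    calc u = l * (l⁻¹ * u * l) * l⁻¹ := by group
      _ = 1 := by rw [e'']; group), by rw [← e]; group⟩
  rw [← hve, ← cent_conj (k := l), e']
  exact hu

/-- the two tori of order `q ∓ r + 1` -/
theorem exists_tori : ∀ k ∈ ({c.a, c.b} : Set ℕ), ∃ g, c.IsFree g ∧
    Nat.card (Subgroup.centralizer ({g} : Set G)) = k ∧
    Nat.card (Subgroup.normalizer ((Subgroup.centralizer ({g} : Set G)) : Set G)) = 6 * k := by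
  classical
  have hq : (27 : ℚ) ≤ c.q := by exact_mod_cast c.hq27
  have hP : (c.a : ℚ) * c.b = c.q * c.q + 1 - c.q := by
    have := congrArg (fun n : ℕ => (n : ℚ)) c.hab
    push_cast at this
    linarith
  have hle : c.q + 1 ≤ c.a * c.b := by
    have := c.hab; have := c.hq27; nlinarith
  set N : ℚ := (Nat.card G : ℚ)
  have hN : 0 < N := Nat.cast_pos.2 Nat.card_pos
  set τ : ℚ := ((c.q : ℚ) + 1) / (c.a * c.b) with hτ
  have hab0 : (0 : ℚ) < c.a * c.b := by rw [hP]; nlinarith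
  have hτ1 : τ ≤ 1 / 20 := by rw [hτ, div_le_iff₀ hab0, hP]; nlinarith
  have hτ0 : 0 < τ := div_pos (by linarith) hab0
  have hF : (Nat.card {g : G | c.IsFree g} : ℚ) = N * (1 - τ) / 3 := by
    have := congrArg (fun n : ℕ => (n : ℚ)) c.card_free
    simp only [Nat.cast_mul, Nat.cast_sub hle, Nat.cast_add, Nat.cast_one, Nat.cast_ofNat] at this
    have hne := hab0.ne'
    rw [show N * (1 - τ) / 3 = N * ((c.a : ℚ) * c.b - (c.q + 1)) / (3 * (c.a * c.b)) by rw [hτ]; field_simp; rw [sub_div, div_self hne],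
      eq_div_iff (mul_ne_zero three_ne_zero hne)]
    exact this
  have hcl : ∀ g, c.IsFree g → ∃ n M : ℕ, (n = 1 ∨ n = 2 ∨ n = 3 ∨ n = 6) ∧ 7 ≤ M ∧ M ∣ c.a * c.b ∧
      Nat.card (Subgroup.centralizer ({g} : Set G)) = M ∧
      Nat.card (Subgroup.normalizer ((Subgroup.centralizer ({g} : Set G)) : Set G)) = n * M ∧
      ((cls g).ncard : ℚ) = N * ((1 - 1 / (M : ℚ)) / n) ∧ 6 / 7 / (n : ℚ) ≤ (1 - 1 / (M : ℚ)) / n := by
    intro g hg
    obtain ⟨hd, h7, n, hn, hN'⟩ := hg.card_facts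
    refine ⟨n, _, ?_, h7, hd, rfl, hN', ?_, ?_⟩
    · have := Nat.le_of_dvd (by norm_num) hn
      interval_cases n <;> omega
    · have h := congrArg (fun n : ℕ => (n : ℚ)) hg.card_cls
      rw [hN'] at h
      simp only [Nat.cast_mul, Nat.cast_sub (by omega : 1 ≤ Nat.card (Subgroup.centralizer ({g} : Set G))),
        Nat.cast_one] at h
      rw [← Nat.card_coe_set_eq]
      have hn0 : (n : ℚ) ≠ 0 := by
        have : n ≠ 0 := by rintro rfl; norm_num at hn
        exact_mod_cast this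
      have hM0 : (Nat.card (Subgroup.centralizer ({g} : Set G)) : ℚ) ≠ 0 := by exact_mod_cast Nat.card_pos.ne'
      field_simp
      linear_combination h
    · have hM : (7 : ℚ) ≤ Nat.card (Subgroup.centralizer ({g} : Set G)) := by exact_mod_cast h7
      have : 1 / (Nat.card (Subgroup.centralizer ({g} : Set G)) : ℚ) ≤ 1 / 7 :=
        one_div_le_one_div_of_le (by norm_num) hM
      apply div_le_div_of_nonneg_right (by linarith) (by positivity)
  have hbig : ∀ n M : ℕ, (n = 1 ∨ n = 2 ∨ n = 3 ∨ n = 6) → 6 / 7 / (n : ℚ) ≤ (1 - 1 / (M : ℚ)) / n →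
      1 / 7 ≤ (1 - 1 / (M : ℚ)) / n ∧ (n ≠ 6 → 2 / 7 ≤ (1 - 1 / (M : ℚ)) / n) := by
    intro n M hn h
    rcases hn with rfl | rfl | rfl | rfl <;> norm_num at h ⊢ <;> first | (constructor <;> linarith) | linarith
  set AF : Set G := {g | c.IsFree g}
  have hAF : (AF.ncard : ℚ) = N * (1 - τ) / 3 := by rw [← Nat.card_coe_set_eq]; exact hF
  have hsub : ∀ g, c.IsFree g → cls g ⊆ AF := fun g hg y hy => hg.cls_free hy
  obtain ⟨g₁, hg₁⟩ : AF.Nonempty := by
    apply Set.nonempty_of_ncard_ne_zero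
    intro h
    rw [h, Nat.cast_zero] at hAF
    nlinarith
  obtain ⟨n₁, M₁, hn₁, h7₁, hd₁, hM₁, hN₁, hc₁, hl₁⟩ := hcl g₁ hg₁
  have hb₁ := hbig n₁ M₁ hn₁ hl₁
  obtain ⟨g₂, hg₂, hnot⟩ : ∃ g₂, c.IsFree g₂ ∧ g₂ ∉ cls g₁ := by
    by_contra h
    push Not at h
    have e : cls g₁ = AF := le_antisymm (hsub _ hg₁) h
    rw [e, hAF] at hc₁
    have h1 : (1 - τ) / 3 = (1 - 1 / (M₁ : ℚ)) / n₁ :=
      mul_left_cancel₀ hN.ne' (by linarith [show N * ((1 - τ) / 3) = N * (1 - τ) / 3 by ring])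
    rcases hn₁ with rfl | rfl | rfl | rfl
    · norm_num at hl₁ h1; linarith
    · norm_num at hl₁ h1; linarith
    · have hM : (M₁ : ℚ) ≠ 0 := by exact_mod_cast (show M₁ ≠ 0 by omega)
      have h2 : τ = 1 / (M₁ : ℚ) := by
        norm_num at h1
        rw [one_div]; linarith
      rw [hτ, div_eq_div_iff hab0.ne' hM] at h2
      have h3 : M₁ * (c.q + 1) = c.a * c.b := by
        have : (((M₁ * (c.q + 1) : ℕ)) : ℚ) = ((c.a * c.b : ℕ) : ℚ) := by push_cast; linarith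
        exact_mod_cast this
      have := (c.ab_cop (d := c.q + 1) (Or.inr (Or.inr dvd_rfl))).symm
      have := Nat.eq_one_of_dvd_coprimes this dvd_rfl ⟨M₁, by rw [← h3]; ring⟩
      have := c.hq27
      omega
    · have : 0 ≤ 1 / (M₁ : ℚ) := by positivity
      norm_num at h1
      rw [one_div] at this
      linarith
  obtain ⟨n₂, M₂, hn₂, h7₂, hd₂, hM₂, hN₂, hc₂, hl₂⟩ := hcl g₂ hg₂
  have hb₂ := hbig n₂ M₂ hn₂ hl₂
  have hdis : Disjoint (cls g₁) (cls g₂) := Set.disjoint_left.2 fun y h1 h2 => hnot (hg₁.cls_eq hg₂ h1 h2)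
  have hself : ∀ g, c.IsFree g → g ∈ cls g := fun g hg => ⟨1, g, IsFree.self_mem, hg.1, by group⟩
  have hall : AF = cls g₁ ∪ cls g₂ := by
    refine le_antisymm (fun g₃ hg₃ => ?_) (Set.union_subset (hsub _ hg₁) (hsub _ hg₂))
    by_contra hno
    rw [Set.mem_union, not_or] at hno
    obtain ⟨n₃, M₃, hn₃, h7₃, hd₃, hM₃, hN₃, hc₃, hl₃⟩ := hcl g₃ hg₃
    have hb₃ := hbig n₃ M₃ hn₃ hl₃
    have d13 : Disjoint (cls g₁ ∪ cls g₂) (cls g₃) := Set.disjoint_left.2 fun y h h3 => by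
      rcases h with h | h
      · exact hno.1 (hg₁.cls_eq hg₃ h h3)
      · exact hno.2 (hg₂.cls_eq hg₃ h h3)
    have hle' := Set.ncard_le_ncard (Set.union_subset (Set.union_subset (hsub _ hg₁) (hsub _ hg₂)) (hsub _ hg₃))
      (Set.toFinite AF)
    rw [Set.ncard_union_eq d13 (Set.toFinite _) (Set.toFinite _),
      Set.ncard_union_eq hdis (Set.toFinite _) (Set.toFinite _)] at hle'
    have h' : ((cls g₁).ncard : ℚ) + (cls g₂).ncard + (cls g₃).ncard ≤ AF.ncard := by exact_mod_cast hle'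
    rw [hc₁, hc₂, hc₃, hAF] at h'
    nlinarith [hb₁.1, hb₂.1, hb₃.1]
  have hsum : (1 - τ) / 3 = (1 - 1 / (M₁ : ℚ)) / n₁ + (1 - 1 / (M₂ : ℚ)) / n₂ := by
    have h' := congrArg Set.ncard hall
    rw [Set.ncard_union_eq hdis (Set.toFinite _) (Set.toFinite _)] at h'
    have h'' : (AF.ncard : ℚ) = (cls g₁).ncard + (cls g₂).ncard := by exact_mod_cast h'
    rw [hAF, hc₁, hc₂] at h''
    exact mul_left_cancel₀ hN.ne' (by linarith [show N * ((1 - τ) / 3) = N * (1 - τ) / 3 by ring])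
  have hsix₁ : n₁ = 6 := by
    by_contra h
    linarith [hb₁.2 h, hb₂.1]
  have hsix₂ : n₂ = 6 := by
    by_contra h
    linarith [hb₁.1, hb₂.2 h]
  subst hsix₁ hsix₂
  have hm1 : (M₁ : ℚ) ≠ 0 := by exact_mod_cast (show M₁ ≠ 0 by omega)
  have hm2 : (M₂ : ℚ) ≠ 0 := by exact_mod_cast (show M₂ ≠ 0 by omega)
  have hkey : (M₁ + M₂) * (c.a * c.b) = (c.a + c.b) * (M₁ * M₂) := by
    have h1 : 1 / (M₁ : ℚ) + 1 / M₂ = 2 * τ := by
      push_cast at hsum
      linarith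
    rw [hτ, div_add_div _ _ hm1 hm2, mul_div_assoc', div_eq_div_iff (mul_ne_zero hm1 hm2) hab0.ne'] at h1
    have hs : ((c.a : ℚ) + c.b) = 2 * (c.q + 1) := by exact_mod_cast c.hsum
    have : (((M₁ + M₂) * (c.a * c.b) : ℕ) : ℚ) = (((c.a + c.b) * (M₁ * M₂) : ℕ) : ℚ) := by
      push_cast
      rw [hs]
      linear_combination h1
    exact_mod_cast this
  have hcop : Nat.Coprime M₁ M₂ := Nat.coprime_of_dvd fun p hp h1 h2 =>
    hnot (c.cls_of_common hg₁ hg₂ hp (hM₁ ▸ h1) (hM₂ ▸ h2))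
  have hcm : Nat.Coprime (M₁ * M₂) (M₁ + M₂) :=
    Nat.Coprime.mul_left (Nat.coprime_self_add_right.2 hcop) (Nat.coprime_add_self_right.2 hcop.symm)
  have hcab : Nat.Coprime (c.a * c.b) (c.a + c.b) :=
    Nat.Coprime.mul_left (Nat.coprime_self_add_right.2 c.hcop) (Nat.coprime_add_self_right.2 c.hcop.symm)
  have hprod : M₁ * M₂ = c.a * c.b :=
    Nat.dvd_antisymm (hcm.dvd_of_dvd_mul_left ⟨c.a + c.b, by rw [hkey]; ring⟩)
      (hcab.dvd_of_dvd_mul_left ⟨M₁ + M₂, by rw [← hkey]; ring⟩)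
  have hs : M₁ + M₂ = c.a + c.b := by
    rw [hprod] at hkey
    exact Nat.eq_of_mul_eq_mul_right (by have := c.ab_pos; omega) hkey
  have hroot : M₁ = c.a ∧ M₂ = c.b ∨ M₁ = c.b ∧ M₂ = c.a := by
    have h1 : ((M₁ : ℤ) - c.a) * ((M₁ : ℤ) - c.b) = 0 := by
      have e1 : (M₁ : ℤ) * M₂ = c.a * c.b := by exact_mod_cast hprod
      have e2 : (M₁ : ℤ) + M₂ = c.a + c.b := by exact_mod_cast hs
      linear_combination (M₁ : ℤ) * e2 - e1
    rcases mul_eq_zero.1 h1 with h | h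
    · exact Or.inl ⟨by omega, by omega⟩
    · exact Or.inr ⟨by omega, by omega⟩
  intro k hk
  simp only [Set.mem_insert_iff, Set.mem_singleton_iff] at hk
  rcases hroot with ⟨e1, e2⟩ | ⟨e1, e2⟩ <;> rcases hk with rfl | rfl
  · exact ⟨g₁, hg₁, by rw [hM₁, e1], by rw [hN₁, e1]⟩
  · exact ⟨g₂, hg₂, by rw [hM₂, e2], by rw [hN₂, e2]⟩
  · exact ⟨g₂, hg₂, by rw [hM₂, e2], by rw [hN₂, e2]⟩
  · exact ⟨g₁, hg₁, by rw [hM₁, e1], by rw [hN₁, e1]⟩

end Data

end Cfsg.Agent.Lib.ReeTori
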