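import Mathlib

/-!
Centralisers of elements of prime order acting with one irreducible moved part.
-/

set_option autoImplicit false

namespace Cfsg.Agent.Lib.ReeTori

variable {K V : Type*} [Field K] [Fintype K] [AddCommGroup V] [Module K V] [FiniteDimensional K V]
variable {G : Type*} [Group G] [Finite G] (ρ : G →* Module.End K V) (hρ : Function.Injective ρ)
  (hV : Module.finrank K V = 7) {p : ℕ} [Fact p.Prime] (h6 : orderOf (Fintype.card K : ZMod p) = 6)

/-- the moved part -/
def mov (x : G) : Submodule K V := LinearMap.range (ρ x - 1)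

/-- the fixed part -/
def fixPart (x : G) : Submodule K V := LinearMap.ker (ρ x - 1)

omit [Fintype K] [FiniteDimensional K V] [Finite G] in
theorem mem_fixPart {x : G} {v : V} : v ∈ fixPart ρ x ↔ ρ x v = v := by
  simp [fixPart, sub_eq_zero]

omit [Fintype K] [FiniteDimensional K V] [Finite G] in
theorem mov_invariant {x c : G} (h : c * x = x * c) : ∀ v ∈ mov ρ x, ρ c v ∈ mov ρ x := by
  rintro _ ⟨w, rfl⟩
  refine ⟨ρ c w, ?_⟩
  have e : ρ c (ρ x w) = ρ x (ρ c w) := by
    rw [← Module.End.mul_apply, ← Module.End.mul_apply, ← map_mul, ← map_mul, h]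
  simp [map_sub, e]

omit [Fintype K] [FiniteDimensional K V] [Finite G] in
theorem fixPart_invariant {x c : G} (h : c * x = x * c) : ∀ v ∈ fixPart ρ x, ρ c v ∈ fixPart ρ x := by
  intro v hv
  rw [mem_fixPart] at hv ⊢
  rw [← Module.End.mul_apply, ← map_mul, ← h, map_mul, Module.End.mul_apply, hv]

include hV h6 hρ

variable {x : G} (hx : orderOf x = p)
include hx

theorem mov_disjoint : mov ρ x ⊓ fixPart ρ x = ⊥ := by
  have hp : (p : K) ≠ 0 := fun e => by
    obtain ⟨q, hq⟩ := CharP.exists K
    obtain ⟨n, hqp, hn⟩ := FiniteField.card K q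
    have : q ∣ p := (CharP.cast_eq_zero_iff K q p).1 e
    rw [(Nat.prime_dvd_prime_iff_eq hqp Fact.out).1 this] at hn
    rw [hn, Nat.cast_pow, ZMod.natCast_self, zero_pow n.pos.ne', orderOf_zero] at h6
    omega
  rw [eq_bot_iff]
  rintro v ⟨⟨w, rfl⟩, hfix⟩
  rw [SetLike.mem_coe, mem_fixPart] at hfix
  set v := (ρ x - 1) w with hv
  have hk : ∀ k : ℕ, ρ (x ^ k) w = w + k • v := by
    intro k
    induction k with
    | zero => simp
    | succ k ih =>
      rw [pow_succ', map_mul, Module.End.mul_apply, ih, map_add, map_nsmul, hfix, succ_nsmul]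
      simp [hv]
      abel
  have := hk p
  rw [← hx, pow_orderOf_eq_one, map_one, Module.End.one_apply, left_eq_add, hx, ← Nat.cast_smul_eq_nsmul K] at this
  exact (smul_eq_zero.1 this).resolve_left hp

theorem six_dvd_finrank (U : Submodule K V) (hU : U ≤ mov ρ x) (hinv : ∀ v ∈ U, ρ x v ∈ U) :
    6 ∣ Module.finrank K U := by
  classical
  have : Finite V := Module.finite_of_finite K
  have : Fintype U := Fintype.ofFinite _
  have hpow : ∀ (k : ℕ) (v : U), ρ (x ^ k) v.1 ∈ U := by
    intro k v
    induction k with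
    | zero => simp
    | succ k ih => rw [pow_succ', map_mul, Module.End.mul_apply]; exact hinv _ ih
  have hinv' : ∀ v ∈ U, ρ x⁻¹ v ∈ U := fun v hv => by
    have e : x⁻¹ = x ^ (p - 1) := by
      apply inv_eq_of_mul_eq_one_right
      rw [← pow_succ', Nat.sub_add_cancel (Fact.out : p.Prime).one_le, ← hx, pow_orderOf_eq_one]
    rw [e]; exact hpow _ ⟨v, hv⟩
  let σ : Equiv.Perm U :=
    { toFun := fun v => ⟨ρ x v, hinv v v.2⟩
      invFun := fun v => ⟨ρ x⁻¹ v, hinv' v v.2⟩
      left_inv := fun v => Subtype.ext (by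
        show ρ x⁻¹ (ρ x v) = v.1
        rw [← Module.End.mul_apply, ← map_mul, inv_mul_cancel, map_one, Module.End.one_apply])
      right_inv := fun v => Subtype.ext (by
        show ρ x (ρ x⁻¹ v) = v.1
        rw [← Module.End.mul_apply, ← map_mul, mul_inv_cancel, map_one, Module.End.one_apply]) }
  have hσ : σ ^ p ^ 1 = 1 := by
    have key : ∀ (k : ℕ) (v : U), ((σ ^ k) v : V) = ρ (x ^ k) v := by
      intro k v
      induction k with
      | zero => simp
      | succ k ih =>
        rw [pow_succ', Equiv.Perm.mul_apply, pow_succ', map_mul, Module.End.mul_apply]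
        show ρ x ((σ ^ k) v : V) = _
        rw [ih]
    refine Equiv.ext fun v => Subtype.ext ?_
    rw [pow_one, key, ← hx, pow_orderOf_eq_one]
    simp
  have hmod := Equiv.Perm.card_compl_support_modEq hσ
  have hsupp : σ.supportᶜ = {0} := by
    ext v
    simp only [Finset.mem_compl, Equiv.Perm.mem_support, not_not, Finset.mem_singleton]
    constructor
    · intro h
      have h' : ρ x v.1 = v.1 := congrArg Subtype.val h
      have hz : (v : V) ∈ mov ρ x ⊓ fixPart ρ x := ⟨hU v.2, (mem_fixPart ρ).2 h'⟩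
      rw [mov_disjoint ρ hρ hV h6 hx] at hz
      exact Subtype.ext ((Submodule.mem_bot K).1 hz)
    · rintro rfl
      exact Subtype.ext (by show ρ x (0 : V) = 0; simp)
  rw [hsupp, Finset.card_singleton, Module.card_eq_pow_finrank (K := K), ← ZMod.natCast_eq_natCast_iff,
    Nat.cast_one, Nat.cast_pow] at hmod
  exact h6 ▸ orderOf_dvd_of_pow_eq_one hmod.symm

theorem finrank_mov : Module.finrank K (mov ρ x) = 6 := by
  have hle := Submodule.finrank_le (mov ρ x)
  have h := six_dvd_finrank ρ hρ hV h6 hx (mov ρ x) le_rfl (mov_invariant ρ rfl)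
  have hne : Module.finrank K (mov ρ x) ≠ 0 := by
    intro e
    have hb : mov ρ x = ⊥ := Submodule.finrank_eq_zero.1 e
    have : ρ x = ρ 1 := by
      rw [map_one]
      exact sub_eq_zero.1 (LinearMap.range_eq_bot.1 hb)
    have hx1 := hρ this
    rw [hx1, orderOf_one] at hx
    exact (Fact.out : p.Prime).ne_one hx.symm
  rw [hV] at hle
  omega

theorem sub_eq_bot_or (U : Submodule K V) (hU : U ≤ mov ρ x) (hinv : ∀ v ∈ U, ρ x v ∈ U) :
    U = ⊥ ∨ U = mov ρ x := by
  have h := six_dvd_finrank ρ hρ hV h6 hx U hU hinv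
  have hle := Submodule.finrank_mono hU
  rw [finrank_mov ρ hρ hV h6 hx] at hle
  rcases h with ⟨k, hk⟩
  rcases (show k = 0 ∨ k = 1 by omega) with rfl | rfl
  · exact Or.inl (Submodule.finrank_eq_zero.1 hk)
  · exact Or.inr (Submodule.eq_of_le_of_finrank_eq hU (by rw [hk, finrank_mov ρ hρ hV h6 hx]))

theorem decompose : mov ρ x ⊔ fixPart ρ x = ⊤ ∧ Module.finrank K (fixPart ρ x) = 1 := by
  have h1 := LinearMap.finrank_range_add_finrank_ker (ρ x - 1)
  have h2 := Submodule.finrank_sup_add_finrank_inf_eq (mov ρ x) (fixPart ρ x)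
  rw [mov_disjoint ρ hρ hV h6 hx, finrank_bot, add_zero] at h2
  have hm : Module.finrank K (LinearMap.range (ρ x - 1)) = 6 := finrank_mov ρ hρ hV h6 hx
  rw [hV] at h1
  refine ⟨Submodule.eq_top_of_finrank_eq (h2.trans (h1.trans hV.symm)), ?_⟩
  have : Module.finrank K (LinearMap.ker (ρ x - 1)) = 1 := by omega
  exact this

/-- An element commuting with `x` and coprime to `q - 1` fixes the fixed part. -/
theorem fix_of_coprime {c : G} (hc : c * x = x * c) (hcop : (orderOf c).Coprime (Fintype.card K - 1))
    {v : V} (hv : v ∈ fixPart ρ x) : ρ c v = v := by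
  by_cases hv0 : v = 0
  · simp [hv0]
  have h1 := (decompose ρ hρ hV h6 hx).2
  obtain ⟨l, hl⟩ := (finrank_eq_one_iff_of_nonzero' (⟨v, hv⟩ : fixPart ρ x)
    (fun e => hv0 (congrArg Subtype.val e))).1 h1 ⟨ρ c v, fixPart_invariant ρ hc v hv⟩
  have hl' : l • v = ρ c v := congrArg Subtype.val hl
  have hk : ∀ k : ℕ, ρ (c ^ k) v = l ^ k • v := by
    intro k
    induction k with
    | zero => simp
    | succ k ih => rw [pow_succ', map_mul, Module.End.mul_apply, ih, map_smul, ← hl', smul_smul, pow_succ]
  have := hk (orderOf c)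
  rw [pow_orderOf_eq_one, map_one, Module.End.one_apply] at this
  have hln : l ^ orderOf c = 1 := by
    have h0 : ((1 : K) - l ^ orderOf c) • v = 0 := by rw [sub_smul, one_smul, ← this, sub_self]
    exact (sub_eq_zero.1 ((smul_eq_zero.1 h0).resolve_right hv0)).symm
  have hl0 : l ≠ 0 := fun e => by
    rw [e, zero_pow (orderOf_pos c).ne'] at hln
    exact zero_ne_one hln
  have : l = 1 := by
    have h3 := FiniteField.pow_card_sub_one_eq_one l hl0
    have h4 := Nat.dvd_gcd (orderOf_dvd_of_pow_eq_one hln) (orderOf_dvd_of_pow_eq_one h3)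
    rw [hcop, Nat.dvd_one, orderOf_eq_one_iff] at h4
    exact h4
  rw [← hl', this, one_smul]

/-- the commutant on the moved part -/
def comm : Subalgebra K (Module.End K (mov ρ x)) :=
  Subalgebra.centralizer K {(ρ x).restrict (mov_invariant ρ (x := x) (c := x) rfl)}

omit hV h6 hρ hx in
theorem mem_comm {M : Module.End K (mov ρ x)} :
    M ∈ comm ρ (x := x) ↔ ∀ v, M ⟨ρ x v.1, mov_invariant ρ rfl _ v.2⟩ =
      ⟨ρ x (M v).1, mov_invariant ρ rfl _ (M v).2⟩ := by
  rw [comm, Subalgebra.mem_centralizer_iff]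
  constructor
  · intro h v
    exact (LinearMap.congr_fun (h _ rfl) v).symm
  · rintro h _ rfl
    exact LinearMap.ext fun v => (h v).symm

theorem comm_inj {M : Module.End K (mov ρ x)} (hM : M ∈ comm ρ (x := x)) (hM0 : M ≠ 0) :
    Function.Injective M := by
  rw [← LinearMap.ker_eq_bot]
  have hinv : ∀ v ∈ (LinearMap.ker M).map (mov ρ x).subtype, ρ x v ∈ (LinearMap.ker M).map (mov ρ x).subtype := by
    rintro _ ⟨v, hv, rfl⟩
    refine ⟨⟨ρ x v.1, mov_invariant ρ rfl _ v.2⟩, ?_, rfl⟩
    rw [SetLike.mem_coe, LinearMap.mem_ker] at hv ⊢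
    rw [(mem_comm ρ).1 hM v]
    exact Subtype.ext (by simp [hv])
  have hle : (LinearMap.ker M).map (mov ρ x).subtype ≤ mov ρ x := Submodule.map_subtype_le _ _
  rcases sub_eq_bot_or ρ hρ hV h6 hx _ hle hinv with h | h
  · exact (Submodule.map_injective_of_injective (mov ρ x).injective_subtype) (h.trans (Submodule.map_bot _).symm)
  · exfalso
    apply hM0
    refine LinearMap.ext fun v => ?_
    obtain ⟨w, hw, e⟩ : v.1 ∈ (LinearMap.ker M).map (mov ρ x).subtype := h.symm ▸ v.2
    rw [show v = w from Subtype.ext e.symm]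
    exact LinearMap.mem_ker.1 hw

theorem comm_domain : IsDomain (comm ρ (x := x)) := by
  have : NoZeroDivisors (comm ρ (x := x)) := ⟨fun {a b} hab => by
    by_contra h
    push Not at h
    have ha : (a : Module.End K (mov ρ x)) ≠ 0 := fun e => h.1 (Subtype.ext e)
    apply h.2
    refine Subtype.ext (LinearMap.ext fun v => comm_inj ρ hρ hV h6 hx a.2 ha ?_)
    have := LinearMap.congr_fun (congrArg Subtype.val hab) v
    simpa using this⟩
  have : Nontrivial (comm ρ (x := x)) := by
    refine ⟨⟨0, 1, fun e => ?_⟩⟩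
    have h6' := finrank_mov ρ hρ hV h6 hx
    have : Nontrivial (mov ρ x) := Module.nontrivial_of_finrank_pos (R := K) (by omega)
    obtain ⟨v, hv⟩ := exists_ne (0 : mov ρ x)
    exact hv (by simpa using (LinearMap.congr_fun (congrArg Subtype.val e) v).symm)
  exact NoZeroDivisors.to_isDomain (comm ρ (x := x))

/-- The centraliser into the commutant. -/
def centHom : Subgroup.centralizer ({x} : Set G) →* comm ρ (x := x) where
  toFun c := ⟨(ρ c.1).restrict (mov_invariant ρ (Subgroup.mem_centralizer_singleton_iff.1 c.2)),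
    (mem_comm ρ).2 fun v => Subtype.ext (by
      show ρ c.1 (ρ x v.1) = ρ x (ρ c.1 v.1)
      rw [← Module.End.mul_apply, ← Module.End.mul_apply, ← map_mul, ← map_mul,
        Subgroup.mem_centralizer_singleton_iff.1 c.2])⟩
  map_one' := Subtype.ext (LinearMap.ext fun v => Subtype.ext (by
    show ρ 1 v.1 = v.1
    simp))
  map_mul' a b := Subtype.ext (LinearMap.ext fun v => Subtype.ext (by
    show ρ (a.1 * b.1) v.1 = ρ a.1 (ρ b.1 v.1)
    simp))

variable (hcop : ∀ c ∈ Subgroup.centralizer ({x} : Set G), (orderOf c).Coprime (Fintype.card K - 1))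
include hcop

theorem eq_one_of_mov {c : G} (hc : c ∈ Subgroup.centralizer ({x} : Set G))
    (h : ∀ v ∈ mov ρ x, ρ c v = v) : c = 1 := by
  refine hρ (LinearMap.ext fun v => ?_)
  obtain ⟨a, ha, b, hb, rfl⟩ : ∃ a ∈ mov ρ x, ∃ b ∈ fixPart ρ x, a + b = v :=
    Submodule.mem_sup.1 ((decompose ρ hρ hV h6 hx).1 ▸ Submodule.mem_top)
  rw [map_add, h a ha, fix_of_coprime ρ hρ hV h6 hx (Subgroup.mem_centralizer_singleton_iff.1 hc) (hcop c hc) hb,
    map_one, Module.End.one_apply]

theorem centHom_injective : Function.Injective (centHom ρ (x := x)) := by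
  rw [← MonoidHom.ker_eq_bot_iff, eq_bot_iff]
  intro c hc
  rw [Subgroup.mem_bot]
  refine Subtype.ext (eq_one_of_mov ρ hρ hV h6 hx hcop c.2 fun v hv => ?_)
  exact congrArg Subtype.val (LinearMap.congr_fun (congrArg Subtype.val (MonoidHom.mem_ker.1 hc)) ⟨v, hv⟩)

/-- The centraliser is cyclic. -/
theorem centralizer_cyclic : IsCyclic (Subgroup.centralizer ({x} : Set G)) := by
  haveI := comm_domain ρ hρ hV h6 hx
  let _ : Field (comm ρ (x := x)) :=
    (haveI : Finite V := Module.finite_of_finite K
     haveI : Finite (Module.End K (mov ρ x)) := Finite.of_injective _ DFunLike.coe_injective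
     haveI : Finite (comm ρ (x := x)) := Subtype.finite
     (Finite.isDomain_to_isField (comm ρ (x := x))).toField)
  exact isCyclic_of_subgroup_isDomain _ (centHom_injective ρ hρ hV h6 hx hcop)

/-- The normaliser of the centraliser. -/
theorem normalizer_index :
    ∃ n, n ∣ 6 ∧ Nat.card (Subgroup.normalizer ((Subgroup.centralizer ({x} : Set G)) : Set G)) =
      n * Nat.card (Subgroup.centralizer ({x} : Set G)) := by
  classical
  haveI := comm_domain ρ hρ hV h6 hx
  haveI : Finite V := Module.finite_of_finite K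
  haveI : Finite (Module.End K (mov ρ x)) := Finite.of_injective _ DFunLike.coe_injective
  haveI : Finite (comm ρ (x := x)) := Subtype.finite
  let iF : Field (comm ρ (x := x)) := (Finite.isDomain_to_isField _).toField
  set C := Subgroup.centralizer ({x} : Set G) with hC
  set N := Subgroup.normalizer (C : Set G)
  haveI := centralizer_cyclic ρ hρ hV h6 hx hcop
  have hcomm : ∀ a ∈ C, ∀ b ∈ C, a * b = b * a := fun a ha b hb => by
    letI := IsCyclic.commGroup (α := C)
    exact congrArg Subtype.val (mul_comm (⟨a, ha⟩ : C) ⟨b, hb⟩)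
  have hxC : x ∈ C := Subgroup.mem_centralizer_singleton_iff.2 rfl
  have hCN : C ≤ N := Subgroup.le_normalizer
  -- normalising elements preserve the moved part
  have hW : ∀ g ∈ N, ∀ v ∈ mov ρ x, ρ g v ∈ mov ρ x := by
    rintro g hg _ ⟨w, rfl⟩
    have hy : g * x * g⁻¹ ∈ C := (Subgroup.mem_normalizer_iff.1 hg x).1 hxC
    have e : ρ g ((ρ x - 1) w) = (ρ (g * x * g⁻¹) - 1) (ρ g w) := by
      simp only [LinearMap.sub_apply, Module.End.one_apply, map_sub]
      rw [← Module.End.mul_apply, ← Module.End.mul_apply, ← map_mul, ← map_mul,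
        inv_mul_cancel_right]
    rw [e]
    obtain ⟨a, ha, b, hb, hab⟩ : ∃ a ∈ mov ρ x, ∃ b ∈ fixPart ρ x, a + b = ρ g w :=
      Submodule.mem_sup.1 ((decompose ρ hρ hV h6 hx).1 ▸ Submodule.mem_top)
    have hyc := Subgroup.mem_centralizer_singleton_iff.1 hy
    rw [← hab, map_add, LinearMap.sub_apply, LinearMap.sub_apply, Module.End.one_apply, Module.End.one_apply,
      fix_of_coprime ρ hρ hV h6 hx hyc (hcop _ hy) hb, sub_self, add_zero]
    exact sub_mem (mov_invariant ρ hyc a ha) ha
  -- the action of the normaliser on the commutant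
  let res : N →* Module.End K (mov ρ x) :=
    { toFun := fun g => (ρ g.1).restrict (hW g.1 g.2)
      map_one' := LinearMap.ext fun v => Subtype.ext (by
        show ρ 1 v.1 = v.1
        simp)
      map_mul' := fun a b => LinearMap.ext fun v => Subtype.ext (by
        show ρ (a.1 * b.1) v.1 = ρ a.1 (ρ b.1 v.1)
        simp) }
  let xN : N := ⟨x, hCN hxC⟩
  have hmemE : ∀ M : Module.End K (mov ρ x), M ∈ comm ρ (x := x) ↔ res xN * M = M * res xN := by
    intro M
    rw [comm, Subalgebra.mem_centralizer_iff]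
    simp only [Set.mem_singleton_iff, forall_eq]
    rfl
  have hcommE : ∀ A ∈ comm ρ (x := x), ∀ B ∈ comm ρ (x := x), A * B = B * A := fun A hA B hB =>
    congrArg Subtype.val (mul_comm (⟨A, hA⟩ : comm ρ (x := x)) ⟨B, hB⟩)
  have hCE : ∀ c : N, c.1 ∈ C → res c ∈ comm ρ (x := x) := fun c hc =>
    (hmemE _).2 (by rw [← map_mul, ← map_mul]; exact congrArg res (Subtype.ext (hcomm _ hxC _ hc)))
  have hconj : ∀ (g : N), ∀ M ∈ comm ρ (x := x), res g * M * res g⁻¹ ∈ comm ρ (x := x) := by
    intro g M hM
    set y : N := g * xN * g⁻¹ with hy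
    have hyC : y.1 ∈ C := (Subgroup.mem_normalizer_iff.1 g.2 x).1 hxC
    set M' := res g * M * res g⁻¹ with hM'
    have hMy : M' * res y = res y * M' := by
      have h1 : res g⁻¹ * res g = 1 := by rw [← map_mul, inv_mul_cancel, map_one]
      calc M' * res y = res g * M * ((res g⁻¹ * res g) * res xN) * res g⁻¹ := by
            rw [hM', hy, map_mul, map_mul]; simp only [mul_assoc]
        _ = res g * (res xN * M) * res g⁻¹ := by rw [h1, one_mul, (hmemE M).1 hM]; simp only [mul_assoc]
        _ = res g * res xN * ((res g⁻¹ * res g) * M) * res g⁻¹ := by rw [h1, one_mul]; simp only [mul_assoc]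
        _ = res y * M' := by rw [hM', hy, map_mul, map_mul]; simp only [mul_assoc]
    -- the commutant of `y` is the same field
    have hy1 : res y ≠ 1 := fun e => by
      have h' : (y : G) = 1 := eq_one_of_mov ρ hρ hV h6 hx hcop hyC fun v hv =>
        congrArg Subtype.val (LinearMap.congr_fun e ⟨v, hv⟩)
      have : x = 1 := by
        have h2 : g.1 * x * g.1⁻¹ = 1 := h'
        rwa [conj_eq_one_iff] at h2
      rw [this, orderOf_one] at hx
      exact (Fact.out : p.Prime).ne_one hx.symm
    -- use that `x` is a power of `y`, up to the moved part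
    have hpow : ∃ Y ∈ Algebra.adjoin K ({res y} : Set (Module.End K (mov ρ x))), Y = res xN := by
      refine ⟨_, ?_, rfl⟩
      have hyo : orderOf y = p := by
        rw [← hx, hy, ← Subgroup.orderOf_coe]
        exact orderOf_injective (MulAut.conj g.1).toMonoidHom (MulAut.conj g.1).injective x
      have hsub : xN ∈ Subgroup.zpowers y := by
        haveI : IsCyclic C := centralizer_cyclic ρ hρ hV h6 hx hcop
        haveI : Fintype C := Fintype.ofFinite _
        set yC : C := ⟨y.1, hyC⟩
        have hyC' : orderOf yC = p := by rw [← Subgroup.orderOf_coe yC]; exact (Subgroup.orderOf_coe y).trans hyo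
        have hle := IsCyclic.card_pow_eq_one_le (α := C) (Fact.out : p.Prime).pos
        have hsub : (Finset.range p).image (yC ^ ·) ⊆ Finset.univ.filter (fun a : C => a ^ p = 1) := by
          intro a ha
          obtain ⟨k, -, rfl⟩ := Finset.mem_image.1 ha
          rw [Finset.mem_filter, ← pow_mul, mul_comm, pow_mul, ← hyC', pow_orderOf_eq_one, one_pow]
          exact ⟨Finset.mem_univ _, rfl⟩
        have heq := Finset.eq_of_subset_of_card_le hsub (by
          rw [Finset.card_image_of_injOn, Finset.card_range]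
          · exact hle
          · intro a ha b hb e
            simp only [Finset.coe_range, Set.mem_Iio] at ha hb
            exact pow_injOn_Iio_orderOf (by rw [hyC']; exact ha) (by rw [hyC']; exact hb) e)
        have hx' : (⟨x, hxC⟩ : C) ∈ Finset.univ.filter (fun a : C => a ^ p = 1) := by
          rw [Finset.mem_filter]
          refine ⟨Finset.mem_univ _, Subtype.ext ?_⟩
          show x ^ p = 1
          rw [← hx, pow_orderOf_eq_one]
        rw [← heq] at hx'
        obtain ⟨k, -, hk⟩ := Finset.mem_image.1 hx'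
        exact ⟨k, Subtype.ext (by simpa [yC] using congrArg Subtype.val hk)⟩
      obtain ⟨k, hk⟩ := (mem_powers_iff_mem_zpowers.2 hsub)
      rw [← hk, map_pow]
      exact Subalgebra.pow_mem _ (Algebra.self_mem_adjoin_singleton K _) k
    obtain ⟨Y, hY, rfl⟩ := hpow
    refine (hmemE M').2 ?_
    have : Commute M' (res xN) := by
      refine Algebra.adjoin_induction (p := fun Y _ => Commute M' Y) ?_ (fun r => ?_)
        (fun a b _ _ ha hb => ha.add_right hb) (fun a b _ _ ha hb => ha.mul_right hb) hY
      · rintro _ rfl; exact hMy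
      · exact (Algebra.commute_algebraMap_left r M').symm
    exact this.symm.eq
  let act : N →* (comm ρ (x := x) ≃ₐ[K] comm ρ (x := x)) :=
    { toFun := fun g =>
        { toFun := fun M => ⟨res g * M.1 * res g⁻¹, hconj g M.1 M.2⟩
          invFun := fun M => ⟨res g⁻¹ * M.1 * res g, by simpa using hconj g⁻¹ M.1 M.2⟩
          left_inv := fun M => Subtype.ext (by
            show res g⁻¹ * (res g * M.1 * res g⁻¹) * res g = M.1
            rw [show res g⁻¹ * (res g * M.1 * res g⁻¹) * res g = (res g⁻¹ * res g) * M.1 * (res g⁻¹ * res g) by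
              simp only [mul_assoc], ← map_mul, inv_mul_cancel, map_one, one_mul, mul_one])
          right_inv := fun M => Subtype.ext (by
            show res g * (res g⁻¹ * M.1 * res g) * res g⁻¹ = M.1
            rw [show res g * (res g⁻¹ * M.1 * res g) * res g⁻¹ = (res g * res g⁻¹) * M.1 * (res g * res g⁻¹) by
              simp only [mul_assoc], ← map_mul, mul_inv_cancel, map_one, one_mul, mul_one])
          map_mul' := fun A B => Subtype.ext (by
            show res g * (A.1 * B.1) * res g⁻¹ = res g * A.1 * res g⁻¹ * (res g * B.1 * res g⁻¹)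
            rw [show res g * A.1 * res g⁻¹ * (res g * B.1 * res g⁻¹) =
              res g * A.1 * (res g⁻¹ * res g) * B.1 * res g⁻¹ by simp only [mul_assoc], ← map_mul, inv_mul_cancel,
              map_one, mul_one]
            simp only [mul_assoc])
          map_add' := fun A B => Subtype.ext (by
            show res g * (A.1 + B.1) * res g⁻¹ = _
            rw [mul_add, add_mul]; rfl)
          commutes' := fun r => Subtype.ext (by
            show res g * algebraMap K _ r * res g⁻¹ = algebraMap K _ r
            rw [← Algebra.commutes, mul_assoc, ← map_mul, mul_inv_cancel, map_one, mul_one]) }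
      map_one' := AlgEquiv.ext fun M => Subtype.ext (by
        show res 1 * M.1 * res 1⁻¹ = M.1
        rw [inv_one, map_one, one_mul, mul_one])
      map_mul' := fun a b => AlgEquiv.ext fun M => Subtype.ext (by
        show res (a * b) * M.1 * res (a * b)⁻¹ = res a * (res b * M.1 * res b⁻¹) * res a⁻¹
        rw [mul_inv_rev, map_mul, map_mul]
        simp only [mul_assoc]) }
  have hker : act.ker = C.subgroupOf N := by
    ext g
    rw [MonoidHom.mem_ker, Subgroup.mem_subgroupOf]
    constructor
    · intro h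
      have h1 := congrArg Subtype.val (AlgEquiv.congr_fun h ⟨res xN, hCE xN hxC⟩)
      change res g * res xN * res g⁻¹ = res xN at h1
      rw [← map_mul, ← map_mul] at h1
      have hyC : g.1 * x * g.1⁻¹ ∈ C := (Subgroup.mem_normalizer_iff.1 g.2 x).1 hxC
      have h2 : g.1 * x * g.1⁻¹ * x⁻¹ = 1 := by
        refine eq_one_of_mov ρ hρ hV h6 hx hcop (mul_mem hyC (inv_mem hxC)) fun v hv => ?_
        have h3 : res (g * xN * g⁻¹ * xN⁻¹) = 1 := by
          rw [map_mul, h1, ← map_mul, mul_inv_cancel, map_one]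
        exact congrArg Subtype.val (LinearMap.congr_fun h3 ⟨v, hv⟩)
      refine Subgroup.mem_centralizer_singleton_iff.2 ?_
      rw [mul_inv_eq_one, mul_inv_eq_iff_eq_mul] at h2
      exact h2
    · intro h
      refine AlgEquiv.ext fun M => Subtype.ext ?_
      show res g * M.1 * res g⁻¹ = M.1
      rw [hcommE _ (hCE g h) _ M.2, mul_assoc, ← map_mul, mul_inv_cancel, map_one, mul_one]
  haveI : Algebra.IsSeparable K (comm ρ (x := x)) := inferInstance
  haveI : IsGalois K (comm ρ (x := x)) := inferInstance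
  have hd6 : Module.finrank K (comm ρ (x := x)) ∣ 6 :=
    ⟨_, ((Module.finrank_mul_finrank K (comm ρ (x := x)) (mov ρ x)).trans
      (finrank_mov ρ hρ hV h6 hx)).symm⟩
  have hd : Nat.card act.range ∣ 6 := by
    refine dvd_trans ?_ hd6
    rw [← IsGalois.card_aut_eq_finrank K (comm ρ (x := x))]
    exact Subgroup.card_subgroup_dvd_card _
  refine ⟨Nat.card act.range, hd, ?_⟩
  rw [← Nat.card_congr (QuotientGroup.quotientKerEquivRange act).toEquiv,
    Subgroup.card_eq_card_quotient_mul_card_subgroup act.ker, hker,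
    Nat.card_congr (Subgroup.subgroupOfEquivOfLe hCN).toEquiv]

end Cfsg.Agent.Lib.ReeTori
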