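import Cfsg.Agent.Lib.ReeTori.Free

/-!
The Sylow subgroups, the cyclic Hall subgroups and the element orders.
-/

set_option autoImplicit false

namespace Cfsg.Agent.Lib.ReeTori

theorem isCyclic_of_conj_le {G : Type*} [Group G] {P A : Subgroup G} [IsCyclic A] {k : G}
    (h : ∀ s ∈ P, k⁻¹ * s * k ∈ A) : IsCyclic P := by
  let f : P →* A :=
    { toFun := fun s => ⟨k⁻¹ * s.1 * k, h _ s.2⟩
      map_one' := Subtype.ext (by simp)
      map_mul' := fun s t => Subtype.ext (by simp [mul_assoc]) }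
  exact isCyclic_of_injective f fun s t e => Subtype.ext
    (mul_left_cancel (mul_right_cancel (congrArg Subtype.val e)))

namespace Data

variable {G L : Type*} [Group G] [Finite G] [Group L] [Finite L] (c : Data G L)

include c in
theorem sylow_cyclic {p : ℕ} [Fact p.Prime] (hp3 : 3 < p) (P : Sylow p G) :
    IsCyclic (P : Subgroup G) := by
  have hp : p.Prime := Fact.out
  by_cases hd : p ∣ Nat.card G
  · rw [c.cardG, c.cube_add_one] at hd
    have hq : ¬ p ∣ c.q ^ 3 := by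
      intro h
      obtain ⟨k, hk⟩ := c.hq3
      rw [hk, ← pow_mul] at h
      have := (Nat.prime_dvd_prime_iff_eq hp Nat.prime_three).1 (hp.dvd_of_dvd_pow h)
      omega
    rcases hp.dvd_mul.1 hd with h | h
    · rcases hp.dvd_mul.1 h with h | h
      · exact absurd h hq
      · haveI := c.cycH
        obtain ⟨k, hk⟩ := conj_into P.2 (c.H_index hp (by omega) h)
        exact isCyclic_of_conj_le hk
    · rcases hp.dvd_mul.1 h with h | h
      · haveI := c.cyc_A₁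
        obtain ⟨k, hk⟩ := conj_into P.2 (c.A₁_index hp (by omega) (by omega) h)
        exact isCyclic_of_conj_le hk
      · obtain ⟨x, hx, hP⟩ := c.cent_eq_of_sylow h P
        haveI := (c.cent_prime hp h hx).1
        exact isCyclic_of_injective (Subgroup.inclusion hP) (Subgroup.inclusion_injective _)
  · have h1 : Nat.card (P : Subgroup G) = 1 := by
      obtain ⟨n, hn⟩ := P.2.exists_card_eq
      rcases n with _ | n
      · rw [hn, pow_zero]
      · exact absurd ((hn ▸ dvd_pow_self p n.succ_ne_zero).trans (Subgroup.card_subgroup_dvd_card _)) hd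
    haveI := (Nat.card_eq_one_iff_unique.1 h1).1
    infer_instance

theorem exists_gen_H : ∃ s ∈ c.H, orderOf s = c.q - 1 := by
  haveI := c.cycH
  obtain ⟨s, hs⟩ := IsCyclic.exists_ofOrder_eq_natCard (α := c.H)
  exact ⟨s.1, s.2, by rw [Subgroup.orderOf_coe, hs, c.cardH]⟩

theorem hall_H : ∃ A : Subgroup G, IsCyclic A ∧ Nat.card A = (c.q - 1) / 2 ∧
    Nat.card (Subgroup.normalizer (A : Set G)) = 2 * (c.q - 1) ∧
    ∀ A₀ : Subgroup G, A₀ ≤ A → A₀ ≠ ⊥ → Subgroup.normalizer (A₀ : Set G) = Subgroup.normalizer (A : Set G) := by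
  obtain ⟨s, hs, ho⟩ := c.exists_gen_H
  have hq := c.q_facts.2.2.2.1
  have ho2 : orderOf (s ^ 2) = (c.q - 1) / 2 := by
    rw [orderOf_pow' s two_ne_zero, ho, Nat.gcd_eq_right (by omega)]
  have hcard : Nat.card (Subgroup.zpowers (s ^ 2)) = (c.q - 1) / 2 := by rw [Nat.card_zpowers, ho2]
  have hle : Subgroup.zpowers (s ^ 2) ≤ c.H := Subgroup.zpowers_le.2 (pow_mem hs 2)
  have key : ∀ A₀ : Subgroup G, A₀ ≤ Subgroup.zpowers (s ^ 2) → A₀ ≠ ⊥ →
      Subgroup.normalizer (A₀ : Set G) = Subgroup.normalizer (c.H : Set G) := by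
    intro A₀ h h0
    obtain ⟨u, hu, hu1⟩ := (Subgroup.bot_or_exists_ne_one A₀).resolve_left h0
    refine c.norm_H (h.trans hle) ⟨u, hu, fun e => hu1 ?_⟩
    have h1 : orderOf u ∣ (c.q - 1) / 2 := hcard ▸ Subgroup.orderOf_dvd_natCard _ (h hu)
    have h2 : orderOf u ∣ 2 := orderOf_dvd_of_pow_eq_one (by rw [pow_two, e])
    rw [← orderOf_eq_one_iff]
    exact Nat.eq_one_of_dvd_coprimes
      ((Nat.prime_two.coprime_iff_not_dvd).2 (by omega : ¬ 2 ∣ (c.q - 1) / 2)) h2 h1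
  have hA : Subgroup.zpowers (s ^ 2) ≠ ⊥ := by
    rw [Ne, ← Subgroup.card_eq_one, hcard]
    have := c.hq27
    omega
  exact ⟨Subgroup.zpowers (s ^ 2), inferInstance, hcard, by rw [key _ le_rfl hA, c.card_norm_H],
    fun A₀ h h0 => by rw [key A₀ h h0, key _ le_rfl hA]⟩

theorem hall_A₁ : ∃ A : Subgroup G, IsCyclic A ∧ Nat.card A = (c.q + 1) / 4 ∧
    Nat.card (Subgroup.normalizer (A : Set G)) = 6 * (c.q + 1) ∧
    ∀ A₀ : Subgroup G, A₀ ≤ A → A₀ ≠ ⊥ → Subgroup.normalizer (A₀ : Set G) = Subgroup.normalizer (A : Set G) := by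
  have hn := c.n_spec
  have h0 : c.A₁ ≠ ⊥ := by
    rw [Ne, ← Subgroup.card_eq_one, c.card_A₁]
    omega
  refine ⟨c.A₁, c.cyc_A₁, c.card_A₁, by rw [c.norm_A₁ le_rfl h0, c.card_norm_M],
    fun A₀ h hne => by rw [c.norm_A₁ h hne, c.norm_A₁ le_rfl h0]⟩

theorem hall_free {k : ℕ} (hk : k ∈ ({c.a, c.b} : Set ℕ)) : ∃ A : Subgroup G, IsCyclic A ∧ Nat.card A = k ∧
    Nat.card (Subgroup.normalizer (A : Set G)) = 6 * k ∧
    ∀ A₀ : Subgroup G, A₀ ≤ A → A₀ ≠ ⊥ → Subgroup.normalizer (A₀ : Set G) = Subgroup.normalizer (A : Set G) := by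
  obtain ⟨g, hg, hc, hN⟩ := c.exists_tori k hk
  haveI := hg.cyclic
  refine ⟨_, hg.cyclic, hc, hN, fun A₀ h h0 => le_antisymm ?_ (normalizer_le_of_cyclic h)⟩
  obtain ⟨u, hu, hu1⟩ := (Subgroup.bot_or_exists_ne_one A₀).resolve_left h0
  intro x hx
  have hxu := (Subgroup.mem_normalizer_iff.1 hx u).1 hu
  have h1 := (hg.cent_eq_cent (h hu) hu1).2
  have h2 := (hg.cent_eq_cent (h hxu) (fun e => hu1 (conj_eq_one_iff.1 e))).2
  rw [Subgroup.mem_normalizer_iff]
  intro y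
  conv_rhs => rw [← h2, cent_conj, show x⁻¹ * (x * y * x⁻¹) * x = y by group, h1]

include c in
theorem order_six : ∃ g : G, orderOf g = 6 := by
  classical
  haveI : Fact (Nat.Prime 3) := ⟨Nat.prime_three⟩
  let D : Subgroup G := c.U ⊓ Subgroup.centralizer ({c.z} : Set G)
  have hD : Nat.card D = c.q := by
    rw [← c.cardCU]
    exact Nat.card_congr ⟨fun u => ⟨u.1, u.2.1, mem_cent.1 u.2.2⟩, fun u => ⟨u.1, u.2.1, mem_cent.2 u.2.2⟩,
      fun _ => rfl, fun _ => rfl⟩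
  obtain ⟨⟨u, hu⟩, ho⟩ := exists_prime_orderOf_dvd_card' (G := D) 3
    (hD ▸ Nat.dvd_of_mod_eq_zero c.q_facts.2.2.2.2.1)
  rw [Subgroup.orderOf_mk] at ho
  refine ⟨c.z * u, ?_⟩
  have hz : orderOf c.z = 2 := orderOf_eq_prime (by rw [pow_two, c.hz]) c.hz1
  rw [Commute.orderOf_mul_eq_mul_orderOf_of_coprime (show Commute c.z u from (mem_cent.1 hu.2).symm)
    (by rw [hz, ho]; decide), hz, ho]

theorem order_M : ∃ g : G, orderOf g = (c.q + 1) / 2 := by
  haveI := c.psl.cycT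
  obtain ⟨t, ht⟩ := IsCyclic.exists_ofOrder_eq_natCard (α := c.T)
  refine ⟨c.ι (1, t.1), ?_⟩
  rw [orderOf_injective c.ι c.ι_injective, Prod.orderOf, orderOf_one, Nat.lcm_one_left, Subgroup.orderOf_coe,
    ht, c.card_T]
  have := c.n_spec
  omega

/-- the bases of the orders -/
def bases : Set ℕ := {6, 9, c.q - 1, (c.q + 1) / 2, c.a, c.b}

theorem exists_base {N : ℕ} (hN : N ∈ c.bases) : ∃ g : G, orderOf g = N := by
  have free : ∀ k ∈ ({c.a, c.b} : Set ℕ), ∃ g : G, orderOf g = k := by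
    intro k hk
    obtain ⟨g, hg, hc, -⟩ := c.exists_tori k hk
    haveI := hg.cyclic
    obtain ⟨s, hs⟩ := IsCyclic.exists_ofOrder_eq_natCard (α := Subgroup.centralizer ({g} : Set G))
    exact ⟨s.1, by rw [Subgroup.orderOf_coe, hs, hc]⟩
  simp only [bases, Set.mem_insert_iff, Set.mem_singleton_iff] at hN
  rcases hN with rfl | rfl | rfl | rfl | rfl | rfl
  · exact c.order_six
  · obtain ⟨u, -, hu⟩ := c.hasNine; exact ⟨u, hu⟩
  · obtain ⟨s, -, hs⟩ := c.exists_gen_H; exact ⟨s, hs⟩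
  · exact c.order_M
  · exact free _ (Set.mem_insert _ _)
  · exact free _ (Set.mem_insert_of_mem _ rfl)

include c in
theorem singular_order {g : G} (h3 : 3 ∣ orderOf g) : orderOf g ∣ 6 ∨ orderOf g ∣ 9 := by
  classical
  by_cases h2 : 2 ∣ orderOf g
  · left
    have ho : orderOf (g ^ (orderOf g / 2)) = 2 := orderOf_pow_orderOf_div (orderOf_pos g).ne' h2
    have hv1 : g ^ (orderOf g / 2) ≠ 1 := fun e => by rw [e, orderOf_one] at ho; omega
    have hv2 : g ^ (orderOf g / 2) * g ^ (orderOf g / 2) = 1 := by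
      rw [← pow_two]; exact orderOf_dvd_iff_pow_eq_one.1 ho.dvd
    rcases c.invol_class hv2 hv1 ((Commute.refl g).pow_right _).eq with h6 | ⟨k, hk⟩ | ⟨k, hk⟩
    · exact orderOf_dvd_of_pow_eq_one h6
    · exfalso
      have := Subgroup.orderOf_dvd_natCard _ hk
      rw [orderOf_conj_eq, c.card_M] at this
      have := h3.trans this
      have := c.q_facts
      omega
    · exfalso
      have := Subgroup.orderOf_dvd_natCard _ hk
      rw [orderOf_conj_eq, c.cardH] at this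
      exact c.q1_not_three (h3.trans this)
  · right
    have ho : orderOf (g ^ (orderOf g / 3)) = 3 := orderOf_pow_orderOf_div (orderOf_pos g).ne' h3
    obtain ⟨k, hyU, hk⟩ := c.conj_B_of_three ho
    have hgy : g * g ^ (orderOf g / 3) = g ^ (orderOf g / 3) * g := ((Commute.refl g).pow_right _).eq
    have hb : k⁻¹ * g * k ∈ c.B := hk g hgy
    set y' := k⁻¹ * g ^ (orderOf g / 3) * k with hy'
    set b := k⁻¹ * g * k with hb'
    have hob : orderOf b = orderOf g := by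
      have := orderOf_conj_eq k⁻¹ g
      rwa [inv_inv] at this
    have hby : b * y' = y' * b := by
      rw [hb', hy', show k⁻¹ * g * k * (k⁻¹ * g ^ (orderOf g / 3) * k) = k⁻¹ * (g * g ^ (orderOf g / 3)) * k by group,
        hgy]
      group
    have hy1 : y' ≠ 1 := by
      intro e
      have : orderOf (k⁻¹ * g ^ (orderOf g / 3) * k⁻¹⁻¹) = 3 := by rw [orderOf_conj_eq, ho]
      rw [inv_inv, ← hy', e, orderOf_one] at this
      omega
    obtain ⟨j, m, hm, hjm⟩ := Nat.exists_eq_pow_mul_and_not_dvd (orderOf_pos b).ne' 3 (by decide)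
    have hbm : ¬ 3 ∣ orderOf (b ^ 3 ^ j) := by
      rwa [orderOf_pow' b (pow_ne_zero _ three_ne_zero), hjm, Nat.gcd_eq_right (Dvd.intro _ rfl),
        Nat.mul_div_cancel_left _ (pow_pos (by norm_num) j)]
    obtain ⟨v, hv, h, hh, he⟩ := c.B_class (pow_mem hb _) hbm
    have hh1 : h = 1 := by
      by_contra hne
      have hh2 : h * h ≠ 1 := fun e => by
        have h1 : orderOf h ∣ 2 := orderOf_dvd_of_pow_eq_one (by rw [pow_two, e])
        have h2' : orderOf h ∣ orderOf g := by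
          rw [← hob, ← orderOf_conj_eq v h, ← he]; exact orderOf_pow_dvd _
        rcases (Nat.dvd_prime Nat.prime_two).1 h1 with h1 | h1
        · exact hne (orderOf_eq_one_iff.1 h1)
        · exact h2 (h1 ▸ h2')
      have hcomm : h * (v⁻¹ * y' * v) = (v⁻¹ * y' * v) * h := by
        have e : (v * h * v⁻¹) * y' = y' * (v * h * v⁻¹) := he ▸ ((show Commute b y' from hby).pow_left _).eq
        calc h * (v⁻¹ * y' * v) = v⁻¹ * ((v * h * v⁻¹) * y') * v := by group
          _ = v⁻¹ * (y' * (v * h * v⁻¹)) * v := by rw [e]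
          _ = (v⁻¹ * y' * v) * h := by group
      have := c.fpf h hh hh2 _ (mul_mem (mul_mem (inv_mem hv) hyU) hv) hcomm
      exact hy1 (by
        calc y' = v * (v⁻¹ * y' * v) * v⁻¹ := by group
          _ = 1 := by rw [this]; group)
    rw [hh1, mul_one, mul_inv_cancel] at he
    rw [← hob]
    exact orderOf_dvd_of_pow_eq_one (c.nine _ (c.three_mem hb he))

theorem order_dvd (g : G) : ∃ N ∈ c.bases, orderOf g ∣ N := by
  simp only [bases, Set.mem_insert_iff, Set.mem_singleton_iff]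
  by_cases h3 : 3 ∣ orderOf g
  · rcases c.singular_order h3 with h | h
    · exact ⟨6, by simp, h⟩
    · exact ⟨9, by simp, h⟩
  rcases c.classify h3 with h | ⟨k, h, hh, -, rfl⟩ | ⟨k, x, hx, -, rfl⟩ | h
  · exact ⟨6, by simp, (orderOf_dvd_of_pow_eq_one (show g ^ 2 = 1 by rw [pow_two, h])).trans (by norm_num)⟩
  · exact ⟨c.q - 1, by simp, by rw [orderOf_conj_eq, ← c.cardH]; exact Subgroup.orderOf_dvd_natCard _ hh⟩
  · refine ⟨(c.q + 1) / 2, by simp, ?_⟩
    rw [orderOf_conj_eq]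
    refine (orderOf_dvd_of_pow_eq_one (c.M_pow hx)).trans (dvd_of_eq ?_)
    have := c.n_spec
    omega
  by_cases hg1 : g = 1
  · exact ⟨6, by simp, by simp [hg1]⟩
  have hg : c.IsFree g := ⟨hg1, h⟩
  obtain ⟨p, hp, hpd⟩ := Nat.exists_prime_and_dvd (fun e => hg1 (orderOf_eq_one_iff.1 e) : orderOf g ≠ 1)
  have hpC : p ∣ Nat.card (Subgroup.centralizer ({g} : Set G)) :=
    hpd.trans (Subgroup.orderOf_dvd_natCard _ IsFree.self_mem)
  have fin : ∀ k ∈ ({c.a, c.b} : Set ℕ), p ∣ k → orderOf g ∣ k := by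
    intro k hk hpk
    obtain ⟨g', hg', hc, -⟩ := c.exists_tori k hk
    obtain ⟨l, u, hu, -, e⟩ := c.cls_of_common hg' hg hp (hc ▸ hpk) hpC
    rw [← e, orderOf_conj_eq, ← hc]
    exact Subgroup.orderOf_dvd_natCard _ hu
  rcases hp.dvd_mul.1 (hpd.trans h) with hpa | hpb
  · exact ⟨c.a, by simp, fin _ (Set.mem_insert _ _) hpa⟩
  · exact ⟨c.b, by simp, fin _ (Set.mem_insert_of_mem _ rfl) hpb⟩

theorem orders (d : ℕ) : (∃ g : G, orderOf g = d) ↔
    (d ∣ 6 ∨ d ∣ 9 ∨ d ∣ c.q - 1 ∨ d ∣ (c.q + 1) / 2 ∨ d ∣ c.a ∨ d ∣ c.b) := by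
  have hiff : (d ∣ 6 ∨ d ∣ 9 ∨ d ∣ c.q - 1 ∨ d ∣ (c.q + 1) / 2 ∨ d ∣ c.a ∨ d ∣ c.b) ↔
      ∃ N ∈ c.bases, d ∣ N := by
    simp [bases]
  rw [hiff]
  constructor
  · rintro ⟨g, rfl⟩; exact c.order_dvd g
  · rintro ⟨N, hN, hd⟩
    obtain ⟨g, rfl⟩ := c.exists_base hN
    exact ⟨g ^ (orderOf g / d), orderOf_pow_orderOf_div (orderOf_pos g).ne' hd⟩

end Data

end Cfsg.Agent.Lib.ReeTori
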