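import Cfsg.Agent.Lib.Chev.TwistG2ReeStruct

/-!
The seven-dimensional constituent of the adjoint module of type G2 in characteristic three.
-/

set_option autoImplicit false

namespace Cfsg.Agent.Lib.ReeTori

open Cfsg.Lie Cfsg.Agent.Lib.Chev

/-- codes of the short roots and of the short coroot -/
def shortCodes : List ℕ := [0, 4, 5, 6, 9, 10, 11]

/-- membership in the short codes -/
def isShort (b : ℕ) : Bool := shortCodes.any fun k => Nat.beq k b

theorem invariant_check : (allBelow 12 fun r => shortCodes.all fun b =>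
    (G2.fast.evalW [⟨r, 1, 1, 0⟩] [⟨b, 0, 0, 1⟩]).all fun q => isShort q.b || beqI (q.c % 3) 0) = true := by
  decide +kernel

theorem moved_check : ((G2.fast.evalW (G2.fast.nLets [0, 1, 0, 1, 0, 1]) [⟨4, 0, 0, 1⟩]).all
    fun q => !(Nat.beq q.b 4) && Nat.blt q.b 14) = true := by
  decide +kernel

variable (K : Type*) [Field K]

/-- the vectors spanning the submodule -/
noncomputable def shortVec (i : Fin 7) : chevG2.Idx → K := vecOf chevG2 K (shortCodes.getD i.1 0)

/-- the submodule -/
noncomputable def shortMod : Submodule K (chevG2.Idx → K) := Submodule.span K (Set.range (shortVec K))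

variable {K}

theorem vecOf_single {b : ℕ} (hb : b < 14) :
    ∃ c : chevG2.Idx, vecOf chevG2 K b = Pi.single c 1 ∧
      c = (if h : b < chevG2.rank then Sum.inl ⟨b, h⟩ else
        if h' : b - chevG2.rank < chevG2.nroots then Sum.inr ⟨b - chevG2.rank, h'⟩ else c) := by
  by_cases h : b < chevG2.rank
  · refine ⟨Sum.inl ⟨b, h⟩, ?_, by rw [dif_pos h]⟩
    rw [vecOf, if_pos h, bh, dif_pos h]
  · have h' : b - chevG2.rank < chevG2.nroots := by
      rw [G2.nroots_eq, G2.rank_eq'] at *
      omega
    refine ⟨Sum.inr ⟨b - chevG2.rank, h'⟩, ?_, by rw [dif_neg h, dif_pos h']⟩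
    rw [vecOf, if_neg h, bv, dif_pos h']

theorem finrank_shortMod : Module.finrank K (shortMod K) = 7 := by
  classical
  have hsel : ∀ i : Fin 7, shortCodes.getD i.1 0 < 14 := by decide
  have hinj : ∀ i j : Fin 7, shortCodes.getD i.1 0 = shortCodes.getD j.1 0 → i = j := by decide
  choose f hf hf' using fun i : Fin 7 => vecOf_single (K := K) (hsel i)
  have hfi : Function.Injective f := by
    intro i j e
    apply hinj
    have h1 := hf' i
    have h2 := hf' j
    rw [e] at h1
    have hb : ∀ k : Fin 7, ¬ shortCodes.getD k.1 0 < chevG2.rank →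
        shortCodes.getD k.1 0 - chevG2.rank < chevG2.nroots := fun k _ => by
      have := hsel k; rw [G2.nroots_eq, G2.rank_eq']; omega
    by_cases a : shortCodes.getD i.1 0 < chevG2.rank <;> by_cases b : shortCodes.getD j.1 0 < chevG2.rank
    · rw [dif_pos a] at h1; rw [dif_pos b, h1] at h2; simpa using h2
    · rw [dif_pos a] at h1; rw [dif_neg b, dif_pos (hb j b), h1] at h2; simp at h2
    · rw [dif_neg a, dif_pos (hb i a)] at h1; rw [dif_pos b, h1] at h2; simp at h2
    · rw [dif_neg a, dif_pos (hb i a)] at h1; rw [dif_neg b, dif_pos (hb j b), h1] at h2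
      simp only [Sum.inr.injEq, Fin.mk.injEq] at h2; rw [G2.rank_eq'] at a b h2; omega
  have hli : LinearIndependent K (shortVec K) := by
    have e : shortVec K = (fun c => Pi.single c (1 : K)) ∘ f := funext fun i => hf i
    rw [e]
    have := (Pi.basisFun K chevG2.Idx).linearIndependent.comp f hfi
    convert this using 1
    funext i
    simp
  rw [shortMod, finrank_span_eq_card hli, Fintype.card_fin]

theorem gen_invariant [CharP K 3] {r : ℕ} (hr : r < chevG2.nroots) (t : K) :
    ∀ v ∈ shortMod K, Matrix.mulVec (chevG2.x K r t) v ∈ shortMod K := by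
  intro v hv
  induction hv using Submodule.span_induction with
  | zero => simp
  | add a b _ _ ha hb => rw [Matrix.mulVec_add]; exact add_mem ha hb
  | smul c a _ ha => rw [Matrix.mulVec_smul]; exact Submodule.smul_mem _ c ha
  | mem v hv =>
    obtain ⟨i, rfl⟩ := hv
    have hmem : shortCodes.getD i.1 0 ∈ shortCodes := by revert i; decide
    have hb : shortCodes.getD i.1 0 < chevG2.rank + chevG2.nroots := by
      rw [G2.rank_eq', G2.nroots_eq]; revert i; decide
    have h := evalW_vec (F := K) t 1 G2.checked.tables G2.checked.root [⟨r, 1, 1, 0⟩]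
      (by simp [hr]) hb
    have e : chevG2.wordMat K (realize t 1 [⟨r, 1, 1, 0⟩]) = chevG2.x K r t := by
      simp [realize, wordMat_singleton]
    rw [e] at h
    rw [shortVec, h]
    have hc := invariant_check
    rw [allBelow_iff] at hc
    have hcc := hc r (by rwa [G2.nroots_eq] at hr)
    rw [List.all_eq_true] at hcc
    have hall := hcc _ hmem
    rw [List.all_eq_true] at hall
    refine list_sum_mem fun w hw => ?_
    obtain ⟨q, hq, rfl⟩ := List.mem_map.1 hw
    have hq' := hall q hq
    rw [Bool.or_eq_true] at hq'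
    rcases hq' with hs | h0
    · refine Submodule.smul_mem _ _ (Submodule.subset_span ?_)
      simp only [isShort, List.any_eq_true] at hs
      obtain ⟨k, hk, hkb⟩ := hs
      obtain ⟨j, hj, rfl⟩ := List.getElem_of_mem hk
      refine ⟨⟨j, hj⟩, ?_⟩
      rw [shortVec, ← Nat.eq_of_beq_eq_true hkb]
      simp [hj]
    · have h3 : ((q.c : ℤ) : K) = 0 := by
        obtain ⟨k, hk⟩ := Int.dvd_of_emod_eq_zero (beqI_eq h0)
        rw [hk, Int.cast_mul]
        rw [show ((3 : ℤ) : K) = 0 by exact_mod_cast (CharP.cast_eq_zero K 3), zero_mul]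
      rw [tmVal, h3, zero_mul, zero_mul, zero_smul]
      exact zero_mem _

theorem invariant [Finite K] [CharP K 3] {g : GL chevG2.Idx K} (hg : g ∈ chevG2.group K) :
    ∀ v ∈ shortMod K, Matrix.mulVec (g : Matrix chevG2.Idx chevG2.Idx K) v ∈ shortMod K := by
  induction hg using Subgroup.closure_induction with
  | mem g hg =>
    obtain ⟨r, t, e⟩ := hg
    intro v hv
    rw [e, ← x_eq_xMat r.isLt]
    exact gen_invariant r.isLt t v hv
  | one => intro v hv; simpa using hv
  | mul a b _ _ ha hb =>
    intro v hv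
    rw [Units.val_mul, ← Matrix.mulVec_mulVec]
    exact ha _ (hb v hv)
  | inv a _ ha =>
    intro v hv
    let f : shortMod K →ₗ[K] shortMod K :=
      (Matrix.toLin' (a : Matrix chevG2.Idx chevG2.Idx K)).restrict fun w hw => ha w hw
    have hinj : Function.Injective f := fun u w e => Subtype.ext (by
      have := congrArg (fun z => Matrix.mulVec ((a⁻¹ : GL chevG2.Idx K) : Matrix chevG2.Idx chevG2.Idx K) z.1) e
      have e1 : ∀ z : chevG2.Idx → K, Matrix.mulVec ((a⁻¹ : GL chevG2.Idx K) : Matrix chevG2.Idx chevG2.Idx K)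
          (Matrix.mulVec (a : Matrix chevG2.Idx chevG2.Idx K) z) = z := fun z => by
        rw [Matrix.mulVec_mulVec, ← Units.val_mul, inv_mul_cancel, Units.val_one, Matrix.one_mulVec]
      exact (e1 u.1).symm.trans (this.trans (e1 w.1)))
    obtain ⟨w, hw⟩ := (LinearMap.injective_iff_surjective.1 hinj) ⟨v, hv⟩
    have e2 : Matrix.mulVec (a : Matrix chevG2.Idx chevG2.Idx K) w.1 = v := congrArg Subtype.val hw
    rw [← e2, Matrix.mulVec_mulVec, ← Units.val_mul, inv_mul_cancel, Units.val_one, Matrix.one_mulVec]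
    exact w.2

/-- The representation on the submodule. -/
noncomputable def shortRep [Finite K] [CharP K 3] {G₁ : Subgroup (GL chevG2.Idx K)}
    (hle : G₁ ≤ chevG2.group K) : ↥G₁ →* Module.End K (shortMod K) where
  toFun g := (Matrix.toLin' (g.1 : Matrix chevG2.Idx chevG2.Idx K)).restrict fun v hv => invariant (hle g.2) v hv
  map_one' := LinearMap.ext fun v => Subtype.ext (by simp)
  map_mul' a b := LinearMap.ext fun v => Subtype.ext (by
    show Matrix.mulVec (a.1 * b.1 : GL chevG2.Idx K).1 v.1 = Matrix.mulVec a.1.1 (Matrix.mulVec b.1.1 v.1)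
    rw [Matrix.mulVec_mulVec, Units.val_mul])

theorem shortRep_injective [Finite K] [CharP K 3] {G₁ : Subgroup (GL chevG2.Idx K)}
    (hle : G₁ ≤ chevG2.group K) (hs : IsSimpleGroup ↥G₁) (hw : G2.wZero K ∈ G₁) :
    Function.Injective (shortRep hle) := by
  rw [← MonoidHom.ker_eq_bot_iff]
  refine ((MonoidHom.normal_ker _).eq_bot_or_eq_top).resolve_right fun htop => ?_
  have h1 : shortRep hle ⟨_, hw⟩ = 1 := MonoidHom.mem_ker.1 (htop ▸ Subgroup.mem_top _)
  have hb : (4 : ℕ) < chevG2.rank + chevG2.nroots := by rw [G2.rank_eq', G2.nroots_eq]; norm_num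
  have hv : vecOf chevG2 K 4 ∈ shortMod K := Submodule.subset_span ⟨1, rfl⟩
  have h2 : Matrix.mulVec (G2.wZero K : Matrix chevG2.Idx chevG2.Idx K) (vecOf chevG2 K 4) = vecOf chevG2 K 4 :=
    congrArg Subtype.val (LinearMap.congr_fun h1 ⟨_, hv⟩)
  obtain ⟨hwg, hlt⟩ := G2.checked.wg_nLets (F := K) 1 1 (l := [0, 1, 0, 1, 0, 1])
    (by rw [G2.rank_eq']; decide)
  have h3 := evalW_vec (F := K) 1 1 G2.checked.tables G2.checked.root _ hlt hb
  rw [← G2.checked.val_wg, hwg] at h3
  rw [show G2.wZero K = (([0, 1, 0, 1, 0, 1] : List ℕ).map G2.checked.ng).prod from rfl] at h2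
  rw [h2] at h3
  have h4 : (2 : ℕ) < chevG2.nroots := by rw [G2.nroots_eq]; norm_num
  have h5 := congrFun h3 (Sum.inr ⟨2, h4⟩)
  have hne : ¬ (4 : ℕ) < chevG2.rank := by rw [G2.rank_eq']; norm_num
  rw [show vecOf chevG2 K 4 = Pi.single (Sum.inr ⟨2, h4⟩) 1 by
    rw [vecOf, if_neg hne, bv]
    simp only [G2.rank_eq']
    rw [dif_pos h4], Pi.single_eq_same] at h5
  apply one_ne_zero (α := K)
  rw [h5, tmsVal]
  have happ : ∀ (l : List (chevG2.Idx → K)) (c : chevG2.Idx), l.sum c = (l.map fun f => f c).sum := by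
    intro l c
    induction l with
    | nil => rfl
    | cons f l ih => simp [ih]
  rw [happ]
  refine List.sum_eq_zero fun z hz => ?_
  obtain ⟨w, hw', rfl⟩ := List.mem_map.1 hz
  obtain ⟨q, hq, rfl⟩ := List.mem_map.1 hw'
  have hm := moved_check
  rw [List.all_eq_true] at hm
  have hq' := hm q hq
  rw [Bool.and_eq_true, Bool.not_eq_true', Nat.blt_eq] at hq'
  obtain ⟨c, hc, hc'⟩ := vecOf_single (K := K) hq'.2
  rw [tmVal, hc, Pi.smul_apply, smul_eq_mul, Pi.single_eq_of_ne, mul_zero]
  intro e
  rw [← e] at hc'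
  by_cases hlt' : q.b < chevG2.rank
  · rw [dif_pos hlt'] at hc'; simp at hc'
  · have hq2 : q.b - chevG2.rank < chevG2.nroots := by rw [G2.rank_eq', G2.nroots_eq]; omega
    rw [dif_neg hlt', dif_pos hq2] at hc'
    simp only [Sum.inr.injEq, Fin.mk.injEq, G2.rank_eq'] at hc'
    have : q.b = 4 := by omega
    rw [this] at hq'
    simp at hq'

end Cfsg.Agent.Lib.ReeTori
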