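import Cfsg.Agent.Lib.Chev.TwistG2ReeSylow
import Cfsg.Agent.Lib.ReeTori.Main
import Cfsg.Agent.Lib.ReeTori.Rep
import Cfsg.Agent.Lib.ReeTori.LinAlg
import Cfsg.Agent.S1073

/-!
The small Ree groups satisfy the hypotheses.
-/

set_option autoImplicit false

namespace Cfsg.Agent.Lib.ReeTori

open Cfsg.Lie Cfsg.Agent.Lib.Chev

/-- A group of order eight, self-centralising, with normaliser of order divisible by seven. -/
theorem transitive_seven {G : Type*} [Group G] [Finite G] {S : Subgroup G} (h8 : Nat.card S = 8)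
    (hC : Subgroup.centralizer (S : Set G) = S)
    (h7 : 7 ∣ Nat.card (Subgroup.normalizer (S : Set G))) {v v' : G} (hv : v ∈ S) (hv' : v' ∈ S)
    (hv1 : v ≠ 1) (hv1' : v' ≠ 1) : ∃ k, k * v * k⁻¹ = v' := by
  classical
  haveI : Fact (Nat.Prime 7) := ⟨by norm_num⟩
  obtain ⟨⟨x, hxN⟩, hx⟩ := exists_prime_orderOf_dvd_card' (G := Subgroup.normalizer (S : Set G)) 7 h7
  rw [Subgroup.orderOf_mk] at hx
  set X : Set G := (S : Set G) \ {1}
  have hX : X.ncard = 7 := by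
    rw [Set.ncard_diff_singleton_of_mem (one_mem S), show (S : Set G).ncard = 8 by
      rw [← h8]; exact (Nat.card_coe_set_eq _).symm]
  have moved : ∀ u ∈ X, x * u ≠ u * x → ∀ u' ∈ X, ∃ i : ℕ, x ^ i * u * (x ^ i)⁻¹ = u' := by
    intro u hu hne u' hu'
    let f : Fin 7 → X := fun i => ⟨x ^ i.1 * u * (x ^ i.1)⁻¹,
      (Subgroup.mem_normalizer_iff.1 (pow_mem hxN i.1) u).1 hu.1, fun e => hu.2 (conj_eq_one_iff.1 e)⟩
    have hinj : Function.Injective f := by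
      intro i j e
      by_contra hij
      wlog hlt : i.1 < j.1 generalizing i j
      · exact this e.symm (Ne.symm hij) (by have := Fin.val_ne_of_ne hij; omega)
      have e' : x ^ i.1 * u * (x ^ i.1)⁻¹ = x ^ j.1 * u * (x ^ j.1)⁻¹ := congrArg Subtype.val e
      have hc : Commute (x ^ (j.1 - i.1)) u := by
        show x ^ (j.1 - i.1) * u = u * x ^ (j.1 - i.1)
        have e2 : x ^ j.1 = x ^ i.1 * x ^ (j.1 - i.1) := by rw [← pow_add]; congr 1; omega
        rw [e2] at e'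
        calc x ^ (j.1 - i.1) * u
            = (x ^ i.1)⁻¹ * (x ^ i.1 * x ^ (j.1 - i.1) * u * (x ^ i.1 * x ^ (j.1 - i.1))⁻¹) * x ^ i.1 *
                x ^ (j.1 - i.1) := by group
          _ = (x ^ i.1)⁻¹ * (x ^ i.1 * u * (x ^ i.1)⁻¹) * x ^ i.1 * x ^ (j.1 - i.1) := by rw [← e']
          _ = u * x ^ (j.1 - i.1) := by group
      have hcop : Nat.Coprime (j.1 - i.1) (orderOf x) := by
        rw [hx]
        refine (Nat.Prime.coprime_iff_not_dvd (by norm_num)).2 (fun h => ?_) |>.symm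
        have := Nat.le_of_dvd (by omega) h
        have := j.2
        omega
      obtain ⟨n, hn⟩ := exists_pow_eq_self_of_coprime hcop
      exact hne (hn ▸ (hc.pow_left n : Commute _ u)).eq
    have hbij : Function.Bijective f := (Nat.bijective_iff_injective_and_card f).2
      ⟨hinj, by rw [Nat.card_eq_fintype_card, Fintype.card_fin, Nat.card_coe_set_eq, hX]⟩
    obtain ⟨i, hi⟩ := hbij.2 ⟨u', hu'⟩
    exact ⟨i.1, congrArg Subtype.val hi⟩
  have hfree : ∀ u ∈ X, x * u ≠ u * x := by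
    intro u hu hc
    have hall : ∀ u' ∈ S, x * u' = u' * x := by
      intro u' hu'
      by_cases h1 : u' = 1
      · simp [h1]
      by_contra hne
      obtain ⟨i, hi⟩ := moved u' ⟨hu', h1⟩ hne u hu
      apply hne
      have e : u' = (x ^ i)⁻¹ * u * x ^ i := by rw [← hi]; group
      have hcomm : Commute x ((x ^ i)⁻¹ * u * x ^ i) :=
        (((Commute.refl x).pow_right i).inv_right.mul_right (show Commute x u from hc)).mul_right
          ((Commute.refl x).pow_right i)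
      rw [e]; exact hcomm.eq
    have hxS : x ∈ S := hC ▸ Subgroup.mem_centralizer_iff.2 (fun u' hu' => (hall u' hu').symm)
    have := Subgroup.orderOf_dvd_natCard S hxS
    rw [hx, h8] at this
    omega
  obtain ⟨i, hi⟩ := moved v ⟨hv, hv1⟩ (hfree v ⟨hv, hv1⟩) v' ⟨hv', hv1'⟩
  exact ⟨_, hi⟩

/-- numbers -/
theorem ree_numbers {m : ℕ} (hm : 1 ≤ m) :
    27 ≤ 3 ^ (2 * m + 1) ∧ 3 ^ (2 * m + 1) % 8 = 3 ∧
      (3 ^ (2 * m + 1) - 3 ^ (m + 1) + 1) * (3 ^ (2 * m + 1) + 3 ^ (m + 1) + 1) + 3 ^ (2 * m + 1) =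
        3 ^ (2 * m + 1) * 3 ^ (2 * m + 1) + 1 ∧
      (3 ^ (2 * m + 1) - 3 ^ (m + 1) + 1) + (3 ^ (2 * m + 1) + 3 ^ (m + 1) + 1) = 2 * (3 ^ (2 * m + 1) + 1) ∧
      Nat.Coprime (3 ^ (2 * m + 1) - 3 ^ (m + 1) + 1) (3 ^ (2 * m + 1) + 3 ^ (m + 1) + 1) ∧
      7 ≤ 3 ^ (2 * m + 1) - 3 ^ (m + 1) + 1 ∧ 7 ≤ 3 ^ (2 * m + 1) + 3 ^ (m + 1) + 1 := by
  have hq : 3 ^ (2 * m + 1) = 3 * (3 ^ m * 3 ^ m) := by rw [pow_succ, two_mul, pow_add]; ring
  have hr : 3 ^ (m + 1) = 3 * 3 ^ m := pow_succ' 3 m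
  have he : 3 ≤ 3 ^ m := le_self_pow₀ (by norm_num) (by omega)
  have hq8 : 3 ^ (2 * m + 1) % 8 = 3 := by
    rw [pow_succ, pow_mul, Nat.mul_mod, Nat.pow_mod]; norm_num
  rw [hq] at hq8 ⊢
  rw [hr]
  obtain ⟨e, he'⟩ : ∃ e, e = 3 ^ m := ⟨_, rfl⟩
  rw [← he'] at hq8 he ⊢
  have h3e : 3 * e ≤ 3 * (e * e) := by nlinarith
  have h9 : 9 ≤ e * e := by nlinarith
  obtain ⟨a, ha⟩ : ∃ a, a + 3 * e = 3 * (e * e) := ⟨_, Nat.sub_add_cancel h3e⟩
  rw [show 3 * (e * e) - 3 * e = a by omega]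
  refine ⟨by omega, hq8, by nlinarith, by omega, ?_, ?_, by omega⟩
  · refine Nat.coprime_of_dvd fun p hp h1 h2 => ?_
    have h6 : p ∣ 2 * 3 * e := by
      have := Nat.dvd_sub h2 h1
      rwa [show 3 * (e * e) + 3 * e + 1 - (a + 1) = 2 * 3 * e by omega] at this
    have heo : e % 2 = 1 := by rw [he']; exact Nat.odd_iff.1 (by decide : Odd 3).pow
    have hee : (e * e) % 2 = 1 := by rw [Nat.mul_mod, heo]
    have hodd : (a + 1) % 2 = 1 := by omega
    have h3 : (a + 1) % 3 = 1 := by omega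
    rcases hp.dvd_mul.1 h6 with h | h
    · rcases hp.dvd_mul.1 h with h | h
      · rw [(Nat.prime_dvd_prime_iff_eq hp Nat.prime_two).1 h] at h1; omega
      · rw [(Nat.prime_dvd_prime_iff_eq hp Nat.prime_three).1 h] at h1; omega
    · rw [he'] at h
      rw [(Nat.prime_dvd_prime_iff_eq hp Nat.prime_three).1 (hp.dvd_of_dvd_pow h)] at h1
      omega
  · nlinarith

/-- the order of `q` modulo the primes dividing `q² - q + 1` -/
theorem order_six_mod {p q P : ℕ} [hp : Fact p.Prime] (hP : P + q = q * q + 1) (hd : p ∣ P) (hq : 3 ∣ q)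
    (hodd : Odd q) : orderOf (q : ZMod p) = 6 := by
  have e : (q : ZMod p) * q - q + 1 = 0 := by
    have h0 : ((P : ℕ) : ZMod p) = 0 := (ZMod.natCast_eq_zero_iff _ _).2 hd
    have := congrArg (fun n : ℕ => (n : ZMod p)) hP
    push_cast at this
    rw [h0, zero_add] at this
    linear_combination -this
  set x := (q : ZMod p)
  have h2 : (2 : ZMod p) ≠ 0 := by
    intro h
    have hp2 : p = 2 := (Nat.prime_dvd_prime_iff_eq hp.out Nat.prime_two).1
      ((ZMod.natCast_eq_zero_iff 2 p).1 (by exact_mod_cast h))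
    subst hp2
    have hPodd : Odd P := by
      rw [Nat.odd_iff] at hodd ⊢
      have : (q * q) % 2 = 1 := by rw [Nat.mul_mod, hodd]
      omega
    rw [Nat.odd_iff] at hPodd
    omega
  have h3 : (3 : ZMod p) ≠ 0 := by
    intro h
    have hp3 : p = 3 := (Nat.prime_dvd_prime_iff_eq hp.out Nat.prime_three).1
      ((ZMod.natCast_eq_zero_iff 3 p).1 (by exact_mod_cast h))
    subst hp3
    obtain ⟨k, rfl⟩ := hq
    obtain ⟨l, rfl⟩ := hd
    have : 3 * k * (3 * k) = 3 * (3 * k * k) := by ring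
    omega
  have hcube : x ^ 3 = -1 := by linear_combination (x + 1) * e
  have h6 : x ^ 6 = 1 := by rw [show 6 = 3 * 2 from rfl, pow_mul, hcube]; ring
  have hd6 : orderOf x ∣ 6 := orderOf_dvd_of_pow_eq_one h6
  have n2 : ¬ orderOf x ∣ 2 := by
    intro h
    have hx2 : x ^ 2 = 1 := orderOf_dvd_iff_pow_eq_one.1 h
    have hx : x = 2 := by linear_combination -e + hx2
    rw [hx] at hx2
    exact h3 (by linear_combination hx2)
  have n3 : ¬ orderOf x ∣ 3 := by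
    intro h
    have hx3 : x ^ 3 = 1 := orderOf_dvd_iff_pow_eq_one.1 h
    exact h2 (by linear_combination hcube - hx3)
  have hle := Nat.le_of_dvd (by norm_num) hd6
  interval_cases hn : orderOf x <;> omega

section

variable {K : Type*} [Field K] [Fintype K] [CharP K 3] (θ : K ≃+* K) {m : ℕ}
  (hθ : ∀ t : K, θ t = t ^ 3 ^ m) (hK : Fintype.card K = 3 ^ (2 * m + 1))
include hθ hK

theorem ree_nine :
    (∀ u ∈ chevG2.posUnipotent K ⊓ (G2.reeTwist θ).fixed, u ^ 9 = 1) ∧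
      ∃ u ∈ chevG2.posUnipotent K ⊓ (G2.reeTwist θ).fixed, u ^ 3 ≠ 1 := by
  have he3 : 3 ^ m ≠ 0 := by positivity
  have hone : G2.six (0 : K) 0 0 0 0 0 = 1 := by
    rw [← G2.reeWord_zero (K := K) (e := 3 ^ m) he3, G2.reeWord_eq_six]
    simp
  refine ⟨fun u hu => ?_, ?_⟩
  · obtain ⟨t, a, b, rfl⟩ := (G2.mem_unip_iff θ hθ hK u).1 hu
    rw [show 9 = 3 * 3 from rfl, pow_mul, G2.reeWord_eq_six, G2.six_cube, G2.six_cube, ← hone]
    simp
  · refine ⟨_, (G2.mem_unip_iff θ hθ hK _).2 ⟨1, 0, 0, rfl⟩, fun h => ?_⟩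
    rw [G2.reeWord_eq_six, G2.six_cube, ← hone] at h
    have h9 := (G2.six_inj h).2.2.2.1
    simp at h9

theorem ree_coord_cent {z : GL chevG2.Idx K} (hz : ∀ t u v : K,
    z * G2.checked.wg (reeWordU (3 ^ m) t u v) * z⁻¹ = G2.checked.wg (reeWordU (3 ^ m) (-t) u (-v))) :
    Nat.card {u : GL chevG2.Idx K // u ∈ chevG2.posUnipotent K ⊓ (G2.reeTwist θ).fixed ∧ u * z = z * u} =
      3 ^ (2 * m + 1) := by
  have h3 : (3 : K) = 0 := CharP.ofNat_eq_zero K 3
  rw [← hK, ← Nat.card_eq_fintype_card]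
  refine (Nat.card_congr (Equiv.ofBijective (fun a : K =>
    (⟨G2.checked.wg (reeWordU (3 ^ m) 0 a 0), (G2.mem_unip_iff θ hθ hK _).2 ⟨0, a, 0, rfl⟩, ?_⟩ :
      {u : GL chevG2.Idx K // u ∈ chevG2.posUnipotent K ⊓ (G2.reeTwist θ).fixed ∧ u * z = z * u}))
    ⟨?_, ?_⟩)).symm
  · have := hz 0 a 0
    rw [neg_zero, mul_inv_eq_iff_eq_mul] at this
    exact this.symm
  · intro a a' e
    exact (G2.reeWord_inj (congrArg Subtype.val e)).2.1
  · rintro ⟨u, hu, hc⟩
    obtain ⟨t, a, b, rfl⟩ := (G2.mem_unip_iff θ hθ hK u).1 hu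
    have := hz t a b
    rw [← hc, mul_inv_cancel_right] at this
    obtain ⟨e1, -, e2⟩ := G2.reeWord_inj this
    obtain rfl : t = 0 := by linear_combination -e1 + t * h3
    obtain rfl : b = 0 := by linear_combination -e2 + b * h3
    exact ⟨a, rfl⟩

set_option maxHeartbeats 1000000 in
theorem exists_data (hm : 1 ≤ m) :
    ∃ c : Data ↥(G2.reeTwist θ).fixed (Matrix.ProjectiveSpecialLinearGroup (Fin 2) K),
      c.q = 3 ^ (2 * m + 1) ∧ c.a = 3 ^ (2 * m + 1) - 3 ^ (m + 1) + 1 ∧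
        c.b = 3 ^ (2 * m + 1) + 3 ^ (m + 1) + 1 := by
  classical
  obtain ⟨hq27, hq8, hab, hsum, hcop, ha, hb⟩ := ree_numbers hm
  have hperf := G2.perfect_ree θ hθ hK hm
  have hsimple := (Cfsg.Agent.S1073.result hm hK).1
  have hG := G2.card_ree θ hθ hK
  rw [G2.eq_fixed θ hθ hK] at hperf hsimple hG
  obtain ⟨hsyl, hsylN⟩ := G2.ree_sylow_two θ hθ hK
  obtain ⟨ζ, hζ, hconj⟩ := G2.exists_torusHom θ hθ hK
  obtain ⟨T, S, hpsl⟩ := exists_pslTori (F := K) (by rw [hK]; exact hq8)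
  set F := (G2.reeTwist θ).fixed with hFdef
  have hle : F ≤ chevG2.group K := Twist.fixed_le _
  let B : Subgroup ↥F := (chevG2.borelSubgroup K ⊓ F).subgroupOf F
  let U : Subgroup ↥F := (chevG2.posUnipotent K ⊓ F).subgroupOf F
  let H : Subgroup ↥F := (chevG2.diagonalSubgroup K ⊓ F).subgroupOf F
  have memB : ∀ g : ↥F, g ∈ B ↔ g.1 ∈ chevG2.borelSubgroup K := fun g => by
    simp [B, Subgroup.mem_subgroupOf]
  have memU : ∀ g : ↥F, g ∈ U ↔ g.1 ∈ chevG2.posUnipotent K := fun g => by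
    simp [U, Subgroup.mem_subgroupOf]
  have memH : ∀ g : ↥F, g ∈ H ↔ g.1 ∈ chevG2.diagonalSubgroup K := fun g => by
    simp [H, Subgroup.mem_subgroupOf]
  have borel_of : ∀ b ∈ B, ∃ u ∈ U, ∃ h ∈ H, b = u * h := fun b hb => by
    obtain ⟨u, hu, huF, d, hd, hdF, e⟩ := (G2.reeTwist θ).fixed_borel ((memB b).1 hb) b.2
    exact ⟨⟨u, huF⟩, (memU _).2 hu, ⟨d, hdF⟩, (memH _).2 hd, Subtype.ext e⟩
  have UN : ∀ g ∈ B, ∀ u ∈ U, g * u * g⁻¹ ∈ U := fun g hg u hu => by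
    obtain ⟨v, hv, d, hd, rfl⟩ := borel_of g hg
    rw [memU] at hu hv ⊢
    rw [memH] at hd
    have := mul_mem (mul_mem hv (G2.checked.diag_normalizes_pos hd hu)) (inv_mem hv)
    simpa [mul_assoc] using this
  have hfpf : ∀ h ∈ H, h * h ≠ 1 → ∀ u ∈ U, h * u = u * h → u = 1 := fun h hh h2 u hu hc => by
    by_contra hne
    exact h2 (Subtype.ext (G2.sq_eq_one_of_comm θ hθ hK (Subgroup.mem_inf.2 ⟨(memH h).1 hh, h.2⟩)
      (Subgroup.mem_inf.2 ⟨(memU u).1 hu, u.2⟩) (fun e => hne (Subtype.ext e))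
      (congrArg Subtype.val hc)))
  have r0 : 0 < chevG2.rank := by rw [G2.rank_eq']; omega
  have hwmono : G2.wZero K ∈ chevG2.monomialSubgroup K := (G2.ree_cls θ).wN_mem_monomial r0
  let w : ↥F := ⟨G2.wZero K, G2.wZero_mem θ⟩
  have wconj : ∀ x ∈ H, w * x * w⁻¹ ∈ H := fun x hx =>
    (memH _).2 (G2.checked.mono_conj_diag hwmono _ ((memH x).1 hx))
  have wconj' : ∀ x ∈ H, w⁻¹ * x * w ∈ H := fun x hx => (memH _).2 (by
    have := G2.checked.mono_conj_diag (inv_mem hwmono) _ ((memH x).1 hx)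
    rw [inv_inv] at this
    exact this)
  have cells' : ∀ g : ↥F, g ∈ B ∨ ∃ v ∈ U, ∃ b ∈ B, g = v * w * b := fun g => by
    rcases G2.cells θ hθ hK g.2 with h | ⟨v, hv, b, hb, e⟩
    · exact Or.inl ((memB g).2 h)
    · exact Or.inr ⟨⟨v, (Subgroup.mem_inf.1 hv).2⟩, (memU _).2 (Subgroup.mem_inf.1 hv).1,
        ⟨b, (Subgroup.mem_inf.1 hb).2⟩, (memB _).2 (Subgroup.mem_inf.1 hb).1, Subtype.ext e⟩
  have UB : U ≤ B := fun g hg => (memB g).2 (Subgroup.mem_sup_left ((memU g).1 hg))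
  have HB : H ≤ B := fun g hg => (memB g).2 (Subgroup.mem_sup_right ((memH g).1 hg))
  have tiU : ∀ g, ∀ u ∈ U, u ≠ 1 → g * u * g⁻¹ ∈ U → g ∈ B := fun g u hu hu1 hg => by
    rcases cells' g with h | ⟨v, hv, b, hb, rfl⟩
    · exact h
    · exfalso
      have h1 := UN b hb u hu
      have h2 : w * (b * u * b⁻¹) * w⁻¹ ∈ U := by
        rw [show w * (b * u * b⁻¹) * w⁻¹ = v⁻¹ * (v * w * b * u * (v * w * b)⁻¹) * v by group]
        exact mul_mem (mul_mem (inv_mem hv) hg) hv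
      have := G2.eq_one_of_conj θ ((memU _).1 h1) ((memB _).1 (UB h2))
      exact hu1 (conj_eq_one_iff.1 (Subtype.ext this : b * u * b⁻¹ = 1))
  -- a regular element of the torus and its conjugates
  have fixB : ∀ h ∈ H, h * h ≠ 1 → ∀ v ∈ U, v * h * v⁻¹ ∈ H → v = 1 := fun h hh h2 v hv hvh => by
    apply hfpf h hh h2 v hv
    have h1 : h⁻¹ * (v * h * v⁻¹) = (h⁻¹ * v * h) * v⁻¹ := by group
    have hU' : (h⁻¹ * v * h) * v⁻¹ ∈ U := by
      refine mul_mem ?_ (inv_mem hv)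
      have := UN h⁻¹ (inv_mem (HB hh)) v hv
      rwa [inv_inv] at this
    have hmem := Subgroup.mem_inf.2 ⟨(memU _).1 hU', (memH _).1 (h1 ▸ mul_mem (inv_mem hh) hvh)⟩
    rw [G2.checked.pos_inf_diag, Subgroup.mem_bot] at hmem
    have h3 : h⁻¹ * v * h * v⁻¹ = 1 := Subtype.ext hmem
    calc h * v = h * (h⁻¹ * v * h * v⁻¹) * v := by rw [h3, mul_one]
      _ = v * h := by group
  have fix2 : ∀ h ∈ H, h * h ≠ 1 → ∀ g, g * h * g⁻¹ ∈ H → g ∈ H ∨ w⁻¹ * g ∈ H := by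
    intro h hh h2 g hg
    rcases cells' g with hB' | ⟨v, hv, b, hb, rfl⟩
    · left
      obtain ⟨v, hv, d, hd, rfl⟩ := borel_of g hB'
      haveI := G2.torus_cyclic θ hθ hK
      have hdh : d * h * d⁻¹ = h := by
        rw [mul_inv_eq_iff_eq_mul]
        exact Subtype.ext (G2.checked.diag_comm ((memH d).1 hd) ((memH h).1 hh))
      rw [show v * d * h * (v * d)⁻¹ = v * (d * h * d⁻¹) * v⁻¹ by group, hdh] at hg
      rw [fixB h hh h2 v hv hg, one_mul]; exact hd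
    · right
      obtain ⟨v2, hv2, d, hd, rfl⟩ := borel_of b hb
      have hdh : d * h * d⁻¹ = h := by
        rw [mul_inv_eq_iff_eq_mul]
        exact Subtype.ext (G2.checked.diag_comm ((memH d).1 hd) ((memH h).1 hh))
      set h' := v * w * (v2 * d) * h * (v * w * (v2 * d))⁻¹ with hh'
      have h'2 : h' * h' ≠ 1 := fun e => h2 (conj_eq_one_iff.1
        (show v * w * (v2 * d) * (h * h) * (v * w * (v2 * d))⁻¹ = 1 by rw [← e, hh']; group))
      set x := w * (v2 * h * v2⁻¹) * w⁻¹ with hx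
      have ex : v * x * v⁻¹ = h' := by
        calc v * x * v⁻¹ = v * w * v2 * h * (v * w * v2)⁻¹ := by rw [hx]; group
          _ = v * w * v2 * (d * h * d⁻¹) * (v * w * v2)⁻¹ := by rw [hdh]
          _ = h' := by rw [hh']; group
      have xB : x ∈ B := by
        rw [show x = v⁻¹ * (v * x * v⁻¹) * v by group, ex]
        exact mul_mem (mul_mem (inv_mem (UB hv)) (HB hg)) (UB hv)
      have xB' : w⁻¹ * x * w ∈ B := by
        rw [show w⁻¹ * x * w = v2 * h * v2⁻¹ by rw [hx]; group]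
        exact mul_mem (mul_mem (UB hv2) (HB hh)) (inv_mem (UB hv2))
      have xH : x ∈ H := (memH x).2 (G2.borel_inter θ hθ hK x.2 ((memB x).1 xB) ((memB _).1 xB'))
      have hv1 : v⁻¹ = 1 := fixB h' hg h'2 v⁻¹ (inv_mem hv) (by
        rw [inv_inv, ← ex, show v⁻¹ * (v * x * v⁻¹) * v = x by group]; exact xH)
      have hv21 : v2 = 1 := fixB h hh h2 v2 hv2 (by
        have := wconj' x xH
        rwa [show w⁻¹ * x * w = v2 * h * v2⁻¹ by rw [hx]; group] at this)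
      rw [inv_eq_one.1 hv1, hv21]
      simpa using hd
  obtain ⟨d0, hd0⟩ := hζ.2 (-1)
  let z : ↥F := ⟨d0.1, (Subgroup.mem_inf.1 d0.2).2⟩
  have h3 : (3 : K) = 0 := CharP.ofNat_eq_zero K 3
  have hz1 : z ≠ 1 := fun h => by
    have h1 : d0 = 1 := Subtype.ext (congrArg Subtype.val h :)
    rw [h1, map_one] at hd0
    have h' : (1 : K) = -1 := by simpa using congrArg Units.val hd0
    exact one_ne_zero (by linear_combination -h' + h3 : (1 : K) = 0)
  have hz : z * z = 1 := by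
    have h1 : d0 * d0 = 1 := hζ.1 (by rw [map_mul, hd0, map_one, neg_one_mul, neg_neg])
    exact Subtype.ext (congrArg Subtype.val h1 :)
  have zH : z ∈ H := (memH z).2 (Subgroup.mem_inf.1 d0.2).1
  obtain ⟨e, he⟩ := G2.centralizer_involution θ hθ hK z (Subgroup.mem_inf.1 d0.2).1 hz1 hz
  have heven : Even (3 * 3 ^ m + 1) := ((by decide : Odd 3).mul ((by decide : Odd 3).pow)).add_one
  have hodd2 : Odd (3 * 3 ^ m + 2) :=
    ((by decide : Odd 3).mul ((by decide : Odd 3).pow)).add_even (by decide)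
  have hzc : ∀ t u v : K, z.1 * G2.checked.wg (reeWordU (3 ^ m) t u v) * z.1⁻¹ =
      G2.checked.wg (reeWordU (3 ^ m) (-t) u (-v)) := fun t u v => by
    rw [hconj d0 t u v, hd0, Units.val_neg, Units.val_one, heven.neg_one_pow, hodd2.neg_one_pow]
    simp
  obtain ⟨hn9, u9, hu9, hu3⟩ := ree_nine θ hθ hK
  have nine : ∀ u ∈ U, u ^ 9 = 1 := fun u hu =>
    Subtype.ext (by rw [SubgroupClass.coe_pow]; exact hn9 u.1 (Subgroup.mem_inf.2 ⟨(memU u).1 hu, u.2⟩))
  have hasNine : ∃ u ∈ U, orderOf u = 9 := by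
    haveI : Fact (Nat.Prime 3) := ⟨Nat.prime_three⟩
    refine ⟨⟨u9, (Subgroup.mem_inf.1 hu9).2⟩, (memU _).2 (Subgroup.mem_inf.1 hu9).1, ?_⟩
    rw [Subgroup.orderOf_mk]
    exact orderOf_eq_prime_pow (p := 3) (n := 1) (by rw [pow_one]; exact hu3) (hn9 _ hu9)
  have invol : ∀ v : ↥F, v * v = 1 → v ≠ 1 → ∃ k, k * z * k⁻¹ = v := by
    intro v hv hv1
    haveI : Fact (Nat.Prime 2) := ⟨Nat.prime_two⟩
    obtain ⟨P⟩ := (inferInstance : Nonempty (Sylow 2 ↥F))
    have h2 : ∀ u : ↥F, u * u = 1 → u ≠ 1 → orderOf u = 2 := fun u hu hu1 =>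
      orderOf_eq_prime (by rw [pow_two, hu]) hu1
    obtain ⟨k, hk⟩ := conj_elem_into (p := 2) (h2 z hz hz1) P.not_dvd_index
    obtain ⟨l, hl⟩ := conj_elem_into (p := 2) (h2 v hv hv1) P.not_dvd_index
    obtain ⟨hC, hN⟩ := hsylN hperf P
    obtain ⟨x, hx⟩ := transitive_seven (hsyl P).1 hC (by rw [hN]; norm_num) hk hl
      (fun e => hz1 (by
        calc z = k * (k⁻¹ * z * k) * k⁻¹ := by group
          _ = 1 := by rw [e]; group))
      (fun e => hv1 (by
        calc v = l * (l⁻¹ * v * l) * l⁻¹ := by group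
          _ = 1 := by rw [e]; group))
    exact ⟨l * x * k⁻¹, by
      calc l * x * k⁻¹ * z * (l * x * k⁻¹)⁻¹ = l * (x * (k⁻¹ * z * k) * x⁻¹) * l⁻¹ := by group
        _ = v := by rw [hx]; group⟩
  refine ⟨{
    q := 3 ^ (2 * m + 1), a := _, b := _, B := B, U := U, H := H, z := z, w := w, T := T, S := S
    e := e, he := he, hq27 := hq27, hq8 := hq8, hq3 := ⟨_, rfl⟩, hab := hab, hsum := hsum
    hcop := hcop, ha := ha, hb := hb, psl := hK ▸ hpsl
    cardL := ?_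
    hz := hz, hz1 := hz1
    cardG := hG
    cardU := ?_
    UB := UB, HB := HB
    cardH := ?_
    cycH := ?_
    zH := zH
    hB := borel_of
    UN := UN, tiU := tiU, fpf := hfpf
    cardCU := ?_
    fix2 := fix2
    hw := ?_
    hwH := ?_
    invol := invol
    syl2 := hsyl
    nine := nine, hasNine := hasNine
    free := ?_ }, rfl, rfl, rfl⟩
  · rw [Cfsg.Agent.Lib.Classical.two_mul_card_PSL_two_of_odd (Nat.odd_iff.2 (by rw [hK]; omega)), ← hK]
  · rw [Nat.card_congr (Subgroup.subgroupOfEquivOfLe inf_le_right).toEquiv, G2.card_pos_fixed θ hθ hK, hK]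
  · rw [Nat.card_congr (Subgroup.subgroupOfEquivOfLe inf_le_right).toEquiv, G2.card_diag_fixed θ hθ hK, hK]
  · haveI := G2.torus_cyclic θ hθ hK
    exact isCyclic_of_injective
      (Subgroup.subgroupOfEquivOfLe (inf_le_right : chevG2.diagonalSubgroup K ⊓ F ≤ F)).toMonoidHom
      (MulEquiv.injective _)
  · rw [← ree_coord_cent θ hθ hK hzc]
    exact Nat.card_congr
      ⟨fun u => ⟨u.1.1, Subgroup.mem_inf.2 ⟨(memU _).1 u.2.1, u.1.2⟩, congrArg Subtype.val u.2.2⟩,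
        fun u => ⟨⟨u.1, (Subgroup.mem_inf.1 u.2.1).2⟩, (memU _).2 (Subgroup.mem_inf.1 u.2.1).1,
          Subtype.ext u.2.2⟩, fun _ => rfl, fun _ => rfl⟩
  · rw [Subgroup.mem_normalizer_iff]
    intro x
    refine ⟨wconj x, fun hx => ?_⟩
    have := wconj' _ hx
    simpa [mul_assoc] using this
  · intro h
    exact G2.wZero_not_borel θ hθ hK ((memB w).1 (HB h))
  · intro p hp hd x hx hcp
    haveI : Fact p.Prime := ⟨hp⟩
    have h6 : orderOf (Fintype.card K : ZMod p) = 6 := by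
      rw [hK]
      exact order_six_mod hab hd (dvd_pow_self 3 (by omega)) ((by decide : Odd 3).pow)
    have hcp' : ∀ c ∈ Subgroup.centralizer ({x} : Set ↥F), (orderOf c).Coprime (Fintype.card K - 1) := by
      rw [hK]; exact hcp
    haveI := hsimple
    have hρ := shortRep_injective hle hsimple (G2.wZero_mem θ)
    exact ⟨centralizer_cyclic (shortRep hle) hρ finrank_shortMod h6 hx hcp',
      normalizer_index (shortRep hle) hρ finrank_shortMod h6 hx hcp'⟩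

end

/-- For the groups as given. -/
theorem exists_data_twisted {K : Type*} [Field K] [Fintype K] {m : ℕ} (hm : 1 ≤ m)
    (hK : Fintype.card K = 3 ^ (2 * m + 1)) :
    ∃ c : Data ↥(twistedG2 K (3 ^ m)) (Matrix.ProjectiveSpecialLinearGroup (Fin 2) K),
      c.q = 3 ^ (2 * m + 1) ∧ c.a = 3 ^ (2 * m + 1) - 3 ^ (m + 1) + 1 ∧
        c.b = 3 ^ (2 * m + 1) + 3 ^ (m + 1) + 1 := by
  obtain ⟨hc, θ, hθ⟩ := G2.exists_theta hK
  haveI := hc
  rw [G2.eq_fixed θ hθ hK]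
  exact exists_data θ hθ hK hm

end Cfsg.Agent.Lib.ReeTori
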