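import Cfsg.Agent.Lib.ReeTori.Borel
import Cfsg.Agent.Lib.Coprime.Abelian

/-!
The tori inside centralisers of involutions.
-/

set_option autoImplicit false

namespace Cfsg.Agent.Lib.ReeTori

theorem cyclic_two_roots {L : Type*} [Group L] [Finite L] (A : Subgroup L) [IsCyclic A] {x y : L}
    (hx : x ∈ A) (hy : y ∈ A) (hx2 : x * x = 1) (hy2 : y * y = 1) (hx1 : x ≠ 1) (hy1 : y ≠ 1) : x = y := by
  classical
  by_contra hne
  haveI : Fintype A := Fintype.ofFinite _
  have hle := IsCyclic.card_pow_eq_one_le (α := A) two_pos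
  have hsub : ({1, ⟨x, hx⟩, ⟨y, hy⟩} : Finset A) ⊆ Finset.univ.filter (fun a : A => a ^ 2 = 1) := by
    intro a ha
    simp only [Finset.mem_insert, Finset.mem_singleton] at ha
    simp only [Finset.mem_filter, Finset.mem_univ, true_and]
    rcases ha with rfl | rfl | rfl
    · exact one_pow _
    · exact Subtype.ext (by simp [pow_two, hx2])
    · exact Subtype.ext (by simp [pow_two, hy2])
  have h3 : ({1, ⟨x, hx⟩, ⟨y, hy⟩} : Finset A).card = 3 := by
    have a1 : (1 : A) ≠ ⟨x, hx⟩ := fun e => hx1 (congrArg Subtype.val e).symm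
    have a2 : (1 : A) ≠ ⟨y, hy⟩ := fun e => hy1 (congrArg Subtype.val e).symm
    have a3 : (⟨x, hx⟩ : A) ≠ ⟨y, hy⟩ := fun e => hne (congrArg Subtype.val e)
    simp [a1, a2, a3]
  have := (Finset.card_le_card hsub).trans hle
  omega

namespace Data

variable {G L : Type*} [Group G] [Finite G] [Group L] [Finite L] (c : Data G L)

/-- the centraliser of the involution as a product -/
def ι : Multiplicative (ZMod 2) × L →* G := (Subgroup.centralizer ({c.z} : Set G)).subtype.comp c.e.symm.toMonoidHom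

theorem ι_injective : Function.Injective c.ι := fun _ _ h => c.e.symm.injective (Subtype.ext h)

theorem ι_one_one : c.ι (Multiplicative.ofAdd 1, 1) = c.z := by
  show ((c.e.symm (Multiplicative.ofAdd 1, 1) : Subgroup.centralizer ({c.z} : Set G)) : G) = c.z
  rw [← c.he, MulEquiv.symm_apply_apply]

theorem cent_z {g : G} : g * c.z = c.z * g ↔ ∃ p, c.ι p = g := by
  constructor
  · intro h
    refine ⟨c.e ⟨g, mem_cent.2 h⟩, ?_⟩
    show ((c.e.symm _ : Subgroup.centralizer ({c.z} : Set G)) : G) = g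
    rw [MulEquiv.symm_apply_apply]
  · rintro ⟨p, rfl⟩
    exact mem_cent.1 (c.e.symm p).2

theorem card_cz : Nat.card (Subgroup.centralizer ({c.z} : Set G)) = c.q * (c.q ^ 2 - 1) := by
  rw [Nat.card_congr c.e.toEquiv, Nat.card_prod, ← c.cardL,
    show Nat.card (Multiplicative (ZMod 2)) = 2 from (Nat.card_congr Multiplicative.toAdd).trans (Nat.card_zmod 2)]

theorem zmod_sq (δ : Multiplicative (ZMod 2)) : δ * δ = 1 := by
  revert δ; decide

/-- The torus of order `q + 1`. -/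
def M : Subgroup G := ((⊤ : Subgroup (Multiplicative (ZMod 2))).prod c.T).map c.ι

theorem mem_M {p : Multiplicative (ZMod 2) × L} : c.ι p ∈ c.M ↔ p.2 ∈ c.T := by
  constructor
  · rintro ⟨p', ⟨-, hp'⟩, e⟩
    rwa [← c.ι_injective e]
  · exact fun h => ⟨p, ⟨Subgroup.mem_top _, h⟩, rfl⟩

theorem exists_of_M {g : G} (hg : g ∈ c.M) : ∃ p, p.2 ∈ c.T ∧ c.ι p = g := by
  obtain ⟨p, hp, rfl⟩ := hg
  exact ⟨p, hp.2, rfl⟩

theorem card_M : Nat.card c.M = c.q + 1 := by
  rw [M, Subgroup.card_map_of_injective c.ι_injective, Nat.card_congr (Subgroup.prodEquiv _ _).toEquiv,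
    Nat.card_prod, Subgroup.card_top, ← c.psl.cardT,
    show Nat.card (Multiplicative (ZMod 2)) = 2 from (Nat.card_congr Multiplicative.toAdd).trans (Nat.card_zmod 2)]

theorem M_le_cz {g : G} (hg : g ∈ c.M) : g * c.z = c.z * g := by
  obtain ⟨p, -, rfl⟩ := c.exists_of_M hg
  exact c.cent_z.2 ⟨p, rfl⟩

theorem T_comm {x y : L} (hx : x ∈ c.T) (hy : y ∈ c.T) : x * y = y * x := by
  haveI := c.psl.cycT
  letI := IsCyclic.commGroup (α := c.T)
  exact congrArg Subtype.val (mul_comm (⟨x, hx⟩ : c.T) ⟨y, hy⟩)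

theorem M_comm {g h : G} (hg : g ∈ c.M) (hh : h ∈ c.M) : g * h = h * g := by
  obtain ⟨p, hp, rfl⟩ := c.exists_of_M hg
  obtain ⟨r, hr, rfl⟩ := c.exists_of_M hh
  rw [← map_mul, ← map_mul]
  exact congrArg c.ι (Prod.ext (mul_comm _ _) (c.T_comm hp hr))

/-- a quarter of `q + 1` -/
def n : ℕ := (c.q + 1) / 4

omit [Finite G] [Finite L] in
theorem n_spec : 4 * c.n = c.q + 1 ∧ Odd c.n ∧ 7 ≤ c.n := by
  have h1 := c.hq8
  have h2 := c.hq27
  unfold n
  exact ⟨by omega, Nat.odd_iff.2 (by omega), by omega⟩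

theorem card_T : Nat.card c.T = 2 * c.n := by
  have := c.psl.cardT
  have := c.n_spec
  omega

/-- the exponent of `M` -/
theorem M_pow {g : G} (hg : g ∈ c.M) : g ^ (2 * c.n) = 1 := by
  obtain ⟨p, hp, rfl⟩ := c.exists_of_M hg
  rw [← map_pow]
  refine (congrArg c.ι (Prod.ext ?_ ?_)).trans (map_one c.ι)
  · show p.1 ^ (2 * c.n) = 1
    rw [pow_mul, pow_two, zmod_sq, one_pow]
  · show p.2 ^ (2 * c.n) = 1
    rw [← c.card_T]
    exact orderOf_dvd_iff_pow_eq_one.1 (Subgroup.orderOf_dvd_natCard _ hp)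

theorem exists_invol_T : ∃ t ∈ c.T, t ≠ 1 ∧ t * t = 1 := by
  haveI : Fact (Nat.Prime 2) := ⟨Nat.prime_two⟩
  obtain ⟨⟨t, ht⟩, ho⟩ := exists_prime_orderOf_dvd_card' (G := c.T) 2 ⟨c.n, c.card_T⟩
  rw [Subgroup.orderOf_mk] at ho
  refine ⟨t, ht, fun e => by rw [e, orderOf_one] at ho; omega, ?_⟩
  rw [← pow_two, ← ho, pow_orderOf_eq_one]

/-- the odd order elements of `M` -/
theorem odd_M {g : G} (hg : g ∈ c.M) (h : g ^ c.n = 1) : ∃ x ∈ c.T, x ^ c.n = 1 ∧ c.ι (1, x) = g := by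
  obtain ⟨⟨δ, x⟩, hp, rfl⟩ := c.exists_of_M hg
  rw [← map_pow, ← map_one c.ι] at h
  have h' := c.ι_injective h
  have h1 : δ ^ c.n = 1 := congrArg Prod.fst h'
  obtain ⟨k, hk⟩ := c.n_spec.2.1
  rw [hk, pow_add, pow_mul, pow_two, zmod_sq, one_pow, one_mul, pow_one] at h1
  exact ⟨x, hp, congrArg Prod.snd h', by rw [h1]⟩

omit [Finite G] in
theorem T_not_three {x : L} (hxn : x ^ c.n = 1) (hx : x ^ 3 = 1) : x = 1 := by
  rw [← orderOf_eq_one_iff]
  refine Nat.eq_one_of_dvd_coprimes ?_ (orderOf_dvd_of_pow_eq_one hxn) (orderOf_dvd_of_pow_eq_one hx)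
  rw [Nat.coprime_comm, Nat.prime_three.coprime_iff_not_dvd]
  have := c.n_spec.1
  have := c.q_facts
  omega

omit [Finite G] in
theorem T_not_S {x : L} (hxn : x ^ c.n = 1) (hS : x ∈ c.S) : x = 1 := by
  rw [← orderOf_eq_one_iff]
  refine Nat.eq_one_of_dvd_coprimes ?_ (orderOf_dvd_of_pow_eq_one hxn) (Subgroup.orderOf_dvd_natCard _ hS)
  have h1 := c.psl.cardS
  have h2 := c.n_spec
  have h3 := c.hq27
  refine Nat.coprime_of_dvd fun p hp ha hb => ?_
  have hb' : p ∣ c.q - 1 := h1 ▸ hb.mul_left 2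
  have ha' : p ∣ c.q + 1 := h2.1 ▸ ha.mul_left 4
  have : p ∣ 2 := by
    have := Nat.dvd_sub ha' hb'
    rwa [show c.q + 1 - (c.q - 1) = 2 by omega] at this
  rw [(Nat.prime_dvd_prime_iff_eq hp Nat.prime_two).1 this] at ha
  obtain ⟨k, hk⟩ := h2.2.1
  omega

variable {x : G} (hxM : x ∈ c.M) (hxn : x ^ c.n = 1) (hx1 : x ≠ 1)
include hxM hxn hx1

/-- every involution of `M` is moved to `z` within the normaliser -/
theorem move {v : G} (hv : v ∈ c.M) (hv2 : v * v = 1) (hv1 : v ≠ 1) :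
    ∃ K : G, K ∈ Subgroup.normalizer (c.M : Set G) ∧ K * c.z * K⁻¹ = v ∧
      ∀ g : G, g * v = v * g → g * x = x * g → g ∈ c.M := by
  obtain ⟨k, hk⟩ := c.invol v hv2 hv1
  have hvx := c.M_comm hv hxM
  have hx'z : k⁻¹ * x * k * c.z = c.z * (k⁻¹ * x * k) := by
    calc k⁻¹ * x * k * c.z = k⁻¹ * (x * (k * c.z * k⁻¹)) * k := by group
      _ = k⁻¹ * ((k * c.z * k⁻¹) * x) * k := by rw [hk, hvx]
      _ = c.z * (k⁻¹ * x * k) := by group
  obtain ⟨⟨δ, y⟩, hp⟩ := c.cent_z.1 hx'z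
  have hxk : (k⁻¹ * x * k) ^ c.n = 1 := by
    have : (k⁻¹ * x * k⁻¹⁻¹) ^ c.n = 1 := by rw [conj_pow, hxn]; group
    rwa [inv_inv] at this
  rw [← hp, ← map_pow, ← map_one c.ι] at hxk
  have h' := c.ι_injective hxk
  have hyn : y ^ c.n = 1 := congrArg Prod.snd h'
  have hδ : δ = 1 := by
    have h1 : δ ^ c.n = 1 := congrArg Prod.fst h'
    obtain ⟨i, hi⟩ := c.n_spec.2.1
    rwa [hi, pow_add, pow_mul, pow_two, zmod_sq, one_pow, one_mul, pow_one] at h1
  have hy1 : y ≠ 1 := by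
    intro e
    apply hx1
    rw [hδ, e, show ((1 : Multiplicative (ZMod 2)), (1 : L)) = 1 from rfl, map_one] at hp
    calc x = k * (k⁻¹ * x * k) * k⁻¹ := by group
      _ = 1 := by rw [← hp]; group
  obtain ⟨g₀, hg₀⟩ : ∃ g₀, g₀ * y * g₀⁻¹ ∈ c.T := by
    rcases c.psl.cover y with h | h | ⟨g, hg⟩
    · exact absurd (c.T_not_three hyn h) hy1
    · exact h
    · exfalso
      have := c.T_not_S (x := g * y * g⁻¹) (by rw [conj_pow, hyn]; group) hg
      exact hy1 (conj_eq_one_iff.1 this)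
  have hy0n : (g₀ * y * g₀⁻¹) ^ c.n = 1 := by rw [conj_pow, hyn]; group
  have hy0sq : g₀ * y * g₀⁻¹ * (g₀ * y * g₀⁻¹) ≠ 1 := by
    intro e
    refine hy1 ((conj_eq_one_iff : g₀ * y * g₀⁻¹ = 1 ↔ y = 1).1 ?_)
    obtain ⟨i, hi⟩ := c.n_spec.2.1
    rw [hi, pow_add, pow_mul, pow_two, e, one_pow, one_mul, pow_one] at hy0n
    exact hy0n
  set K := k * c.ι (1, g₀⁻¹) with hK
  have hKz : K * c.z * K⁻¹ = v := by
    rw [hK, mul_assoc k, c.cent_z.2 ⟨(1, g₀⁻¹), rfl⟩, ← hk]; group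
  have hsub : ∀ g : G, g * v = v * g → g * x = x * g → K⁻¹ * g * K ∈ c.M := by
    intro g hgv hgx
    set g' := k⁻¹ * g * k with hg'
    have h1 : g' * c.z = c.z * g' := by
      rw [← hk] at hgv
      calc g' * c.z = k⁻¹ * (g * (k * c.z * k⁻¹)) * k := by rw [hg']; group
        _ = k⁻¹ * ((k * c.z * k⁻¹) * g) * k := by rw [hgv]
        _ = c.z * g' := by rw [hg']; group
    obtain ⟨⟨ε, l⟩, hl⟩ := c.cent_z.1 h1
    have hly : l * y = y * l := by
      have h2 : g' * (k⁻¹ * x * k) = (k⁻¹ * x * k) * g' := by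
        calc g' * (k⁻¹ * x * k) = k⁻¹ * (g * x) * k := by rw [hg']; group
          _ = k⁻¹ * (x * g) * k := by rw [hgx]
          _ = (k⁻¹ * x * k) * g' := by rw [hg']; group
      rw [← hl, ← hp, ← map_mul, ← map_mul] at h2
      exact congrArg Prod.snd (c.ι_injective h2)
    have hT : g₀ * l * g₀⁻¹ ∈ c.T := by
      rw [← c.psl.centT _ hg₀ hy0sq, Subgroup.mem_centralizer_singleton_iff]
      calc g₀ * l * g₀⁻¹ * (g₀ * y * g₀⁻¹) = g₀ * (l * y) * g₀⁻¹ := by group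
        _ = g₀ * (y * l) * g₀⁻¹ := by rw [hly]
        _ = g₀ * y * g₀⁻¹ * (g₀ * l * g₀⁻¹) := by group
    have e : K⁻¹ * g * K = c.ι (ε, g₀ * l * g₀⁻¹) := by
      have e1 : K⁻¹ * g * K = (c.ι (1, g₀⁻¹))⁻¹ * g' * c.ι (1, g₀⁻¹) := by rw [hK, hg']; group
      rw [e1, ← hl, ← map_inv, ← map_mul, ← map_mul]
      simp
    rw [e]
    exact c.mem_M.2 hT
  have hconj : c.M.map (MulAut.conj K⁻¹).toMonoidHom = c.M := by
    refine Subgroup.eq_of_le_of_card_ge ?_ ?_
    · rintro _ ⟨g, hg, rfl⟩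
      simpa using hsub g (c.M_comm hg hv) (c.M_comm hg hxM)
    · rw [Subgroup.card_map_of_injective (MulAut.conj K⁻¹).injective]
  have hmem : ∀ g : G, g ∈ c.M ↔ K⁻¹ * g * K ∈ c.M := by
    intro g
    constructor
    · intro hg
      rw [← hconj]
      exact ⟨g, hg, by simp⟩
    · intro hg
      obtain ⟨g₁, hg₁, e⟩ : K⁻¹ * g * K ∈ c.M.map (MulAut.conj K⁻¹).toMonoidHom := by rw [hconj]; exact hg
      simp at e
      rwa [← e]
  refine ⟨K, ?_, hKz, fun g h1 h2 => (hmem g).2 (hsub g h1 h2)⟩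
  rw [Subgroup.mem_normalizer_iff]
  intro g
  rw [hmem (K * g * K⁻¹), show K⁻¹ * (K * g * K⁻¹) * K = g by group]

theorem ord_x : 3 ≤ orderOf x ∧ orderOf x ∣ c.n ∧ ¬ 3 ∣ orderOf x := by
  have hd : orderOf x ∣ c.n := orderOf_dvd_of_pow_eq_one hxn
  have h1 : orderOf x ≠ 1 := fun e => hx1 (orderOf_eq_one_iff.1 e)
  obtain ⟨k, hk⟩ := c.n_spec.2.1
  have hodd : Odd (orderOf x) := Odd.of_dvd_nat ⟨k, hk⟩ hd
  refine ⟨by obtain ⟨i, hi⟩ := hodd; omega, hd, fun h3 => ?_⟩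
  have h' := h3.trans hd
  have := c.n_spec.1
  have := c.q_facts
  omega

theorem not_three_cent {g : G} (hg : g * x = x * g) : ¬ 3 ∣ orderOf g := by
  intro h3
  set y := g ^ (orderOf g / 3) with hy
  have ho : orderOf y = 3 := orderOf_pow_orderOf_div (orderOf_pos g).ne' h3
  obtain ⟨k, -, hk⟩ := c.conj_B_of_three ho
  have hxy : x * y = y * x := ((Commute.symm (hg : Commute g x)).pow_right _).eq
  have hB := hk x hxy
  have hd : orderOf x ∣ Nat.card c.B := by
    have h1 := Subgroup.orderOf_dvd_natCard c.B hB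
    rwa [show orderOf (k⁻¹ * x * k) = orderOf x by
      have := orderOf_conj_eq k⁻¹ x; rwa [inv_inv] at this] at h1
  rw [c.card_B] at hd
  obtain ⟨h3x, hdn, hnot3⟩ := c.ord_x hxM hxn hx1
  have h1 : orderOf x ∣ c.q - 1 := (Nat.Coprime.dvd_of_dvd_mul_left (c.cop_q3 dvd_rfl hnot3).symm hd)
  have h2 : orderOf x ∣ c.q + 1 := hdn.trans ⟨4, by have := c.n_spec; omega⟩
  have h4 := Nat.dvd_sub h2 h1
  have := c.hq27
  rw [show c.q + 1 - (c.q - 1) = 2 by omega] at h4
  have := Nat.le_of_dvd two_pos h4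
  omega

/-- the centraliser of an element of the torus -/
theorem cent_eq : ∀ g : G, g * x = x * g ↔ g ∈ c.M := by
  classical
  haveI : Fact (Nat.Prime 2) := ⟨Nat.prime_two⟩
  suffices h : ∀ g : G, g * x = x * g → g ∈ c.M from fun g => ⟨h g, fun hg => c.M_comm hg hxM⟩
  obtain ⟨t, ht, ht1, ht2⟩ := c.exists_invol_T
  let V : Subgroup G :=
    { carrier := {g | g ∈ c.M ∧ g * g = 1}
      one_mem' := ⟨one_mem _, one_mul _⟩
      mul_mem' := fun {a b} ha hb => ⟨mul_mem ha.1 hb.1, by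
        rw [show a * b * (a * b) = (a * a) * (b * b) by
          calc a * b * (a * b) = a * (b * a) * b := by group
            _ = a * (a * b) * b := by rw [c.M_comm hb.1 ha.1]
            _ = (a * a) * (b * b) := by group, ha.2, hb.2, one_mul]⟩
      inv_mem' := fun {a} ha => ⟨inv_mem ha.1, by rw [← mul_inv_rev, ha.2, inv_one]⟩ }
  have hVcard : Nat.card V = 4 := by
    have e : V = ((⊤ : Subgroup (Multiplicative (ZMod 2))).prod (Subgroup.zpowers t)).map c.ι := by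
      ext g
      constructor
      · rintro ⟨hg, hg2⟩
        obtain ⟨⟨δ, y⟩, hy, rfl⟩ := c.exists_of_M hg
        rw [← map_mul, ← map_one c.ι] at hg2
        have hy2 : y * y = 1 := congrArg Prod.snd (c.ι_injective hg2)
        refine ⟨(δ, y), ⟨Subgroup.mem_top _, ?_⟩, rfl⟩
        by_cases hy1 : y = 1
        · show y ∈ Subgroup.zpowers t
          rw [hy1]; exact one_mem _
        · haveI := c.psl.cycT
          show y ∈ Subgroup.zpowers t
          have hy' : y ∈ c.T := hy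
          rw [cyclic_two_roots c.T hy' ht hy2 ht2 hy1 ht1]; exact Subgroup.mem_zpowers t
      · rintro ⟨⟨δ, y⟩, ⟨-, hy⟩, rfl⟩
        have hyT : y ∈ c.T := Subgroup.zpowers_le.2 ht hy
        refine ⟨c.mem_M.2 hyT, ?_⟩
        rw [← map_mul, ← map_one c.ι]
        refine congrArg c.ι (Prod.ext (zmod_sq δ) ?_)
        obtain ⟨i, rfl⟩ := hy
        show t ^ i * t ^ i = 1
        rw [← (Commute.refl t).mul_zpow i, ht2, one_zpow]
    rw [e, Subgroup.card_map_of_injective c.ι_injective, Nat.card_congr (Subgroup.prodEquiv _ _).toEquiv,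
      Nat.card_prod, Subgroup.card_top, Nat.card_zpowers,
      show Nat.card (Multiplicative (ZMod 2)) = 2 from (Nat.card_congr Multiplicative.toAdd).trans (Nat.card_zmod 2),
      orderOf_eq_prime (p := 2) (by rw [pow_two, ht2]) ht1]
  set C := Subgroup.centralizer ({x} : Set G) with hC
  have hVC : V ≤ C := fun g hg => mem_cent.2 (c.M_comm hg.1 hxM)
  have hzV : c.z ∈ V := ⟨c.ι_one_one ▸ c.mem_M.2 (one_mem _), c.hz⟩
  -- no larger 2-subgroup
  have h8 : ¬ 8 ∣ Nat.card C := by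
    intro h8
    obtain ⟨P, hP8, hVP⟩ := Sylow.exists_subgroup_card_pow_prime_le 2 (n := 2) (m := 3)
      (by simpa using h8) (V.subgroupOf C)
      (by rw [Nat.card_congr (Subgroup.subgroupOfEquivOfLe hVC).toEquiv, hVcard]; rfl) (by omega)
    set P' := P.map C.subtype
    have hP' : Nat.card P' = 8 := by rw [Subgroup.card_map_of_injective C.subtype_injective, hP8]; rfl
    obtain ⟨S, hS⟩ := (IsPGroup.of_card (p := 2) (n := 3) (by rw [hP']; rfl)).exists_le_sylow (P := P')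
    have hPS : P' = S := Subgroup.eq_of_le_of_card_ge hS (by rw [(c.syl2 S).1, hP'])
    have hsq : ∀ g ∈ P', g * g = 1 := fun g hg => (c.syl2 S).2 g (hPS ▸ hg : g ∈ (S : Subgroup G))
    have hle : P' ≤ c.M := by
      intro g hg
      have hzP : c.z ∈ P' := ⟨⟨c.z, hVC hzV⟩, hVP hzV, rfl⟩
      have hgC : g ∈ C := by obtain ⟨g', -, rfl⟩ := hg; exact g'.2
      obtain ⟨K, -, -, hK⟩ := c.move hxM hxn hx1 hzV.1 c.hz c.hz1
      refine hK g ?_ (mem_cent.1 hgC)
      have h1 := hsq _ hg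
      have h2 := hsq _ (mul_mem hg hzP)
      calc g * c.z = g * (g * c.z * (g * c.z)) * c.z := by rw [h2, mul_one]
        _ = (g * g) * c.z * g * (c.z * c.z) := by group
        _ = c.z * g := by rw [h1, c.hz, one_mul, mul_one]
    have := Subgroup.card_dvd_of_le hle
    rw [hP', c.card_M] at this
    have := c.hq8
    omega
  -- Burnside transfer
  set V' := V.subgroupOf C with hV'
  have hV'card : Nat.card V' = 4 := by rw [Nat.card_congr (Subgroup.subgroupOfEquivOfLe hVC).toEquiv, hVcard]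
  have hindex : ¬ 2 ∣ V'.index := fun h => h8 (by
    rw [← V'.card_mul_index, hV'card]
    exact Nat.mul_dvd_mul_left 4 h)
  have hp : IsPGroup 2 V' := IsPGroup.of_card (n := 2) (by rw [hV'card]; rfl)
  let P : Sylow 2 C := hp.toSylow hindex
  have hPV : (P : Subgroup C) = V' := rfl
  have hcent : Subgroup.normalizer ((P : Subgroup C) : Set C) ≤ Subgroup.centralizer ((P : Subgroup C) : Set C) := by
    rintro ⟨y, hyC⟩ hy
    have hyV : ∀ g ∈ V, y * g * y⁻¹ ∈ V := fun g hg =>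
      (Subgroup.mem_normalizer_iff.1 hy ⟨g, hVC hg⟩).1 hg
    have hfix : ∀ v ∈ V, v ≠ 1 → y * v * y⁻¹ = v → y ∈ c.M := by
      intro v hv hv1 e
      obtain ⟨K, -, -, hK⟩ := c.move hxM hxn hx1 hv.1 hv.2 hv1
      exact hK y (mul_inv_eq_iff_eq_mul.1 e) (mem_cent.1 hyC)
    have hyM : y ∈ c.M := by
      by_contra hyM
      set σ := fun g : G => y * g * y⁻¹ with hσ
      have hne : ∀ v ∈ V, v ≠ 1 → σ v ≠ v := fun v hv hv1 e => hyM (hfix v hv hv1 e)
      set v1 := σ c.z with hv1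
      have hv1V : v1 ∈ V := hyV _ hzV
      have hv11 : v1 ≠ 1 := fun e => c.hz1 (conj_eq_one_iff.1 e)
      have hv1z : v1 ≠ c.z := hne _ hzV c.hz1
      have hv2V : σ v1 ∈ V := hyV _ hv1V
      have hv21 : σ v1 ≠ 1 := fun e => hv11 (conj_eq_one_iff.1 e)
      have hv2v1 : σ v1 ≠ v1 := hne _ hv1V hv11
      -- the three involutions of `V`
      have hthree : ∀ u ∈ V, u ≠ 1 → u ≠ c.z → u ≠ v1 → u = c.z * v1 := by
        intro u hu hu1 huz huv
        by_contra hne'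
        haveI : Fintype V := Fintype.ofFinite _
        have hzv : c.z * v1 ∈ V := mul_mem hzV hv1V
        have e1 : (1 : V) ≠ ⟨c.z, hzV⟩ := fun e => c.hz1 (congrArg Subtype.val e).symm
        have e2 : (1 : V) ≠ ⟨v1, hv1V⟩ := fun e => hv11 (congrArg Subtype.val e).symm
        have e3 : (1 : V) ≠ ⟨u, hu⟩ := fun e => hu1 (congrArg Subtype.val e).symm
        have e4 : (1 : V) ≠ ⟨c.z * v1, hzv⟩ := fun e => hv1z (by
          have h' : c.z * v1 = 1 := (congrArg Subtype.val e).symm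
          rw [eq_inv_of_mul_eq_one_right h', inv_eq_of_mul_eq_one_right c.hz])
        have e5 : (⟨c.z, hzV⟩ : V) ≠ ⟨v1, hv1V⟩ := fun e => hv1z (congrArg Subtype.val e).symm
        have e6 : (⟨c.z, hzV⟩ : V) ≠ ⟨u, hu⟩ := fun e => huz (congrArg Subtype.val e).symm
        have e7 : (⟨c.z, hzV⟩ : V) ≠ ⟨c.z * v1, hzv⟩ := fun e => hv11 (left_eq_mul.1 (congrArg Subtype.val e))
        have e8 : (⟨v1, hv1V⟩ : V) ≠ ⟨u, hu⟩ := fun e => huv (congrArg Subtype.val e).symm
        have e9 : (⟨v1, hv1V⟩ : V) ≠ ⟨c.z * v1, hzv⟩ := fun e => c.hz1 (right_eq_mul.1 (congrArg Subtype.val e))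
        have e10 : (⟨u, hu⟩ : V) ≠ ⟨c.z * v1, hzv⟩ := fun e => hne' (congrArg Subtype.val e)
        have h5 : ({1, ⟨c.z, hzV⟩, ⟨v1, hv1V⟩, ⟨u, hu⟩, ⟨c.z * v1, hzv⟩} : Finset V).card = 5 := by
          simp [e1, e2, e3, e4, e5, e6, e7, e8, e9, e10]
        have := Finset.card_le_univ ({1, ⟨c.z, hzV⟩, ⟨v1, hv1V⟩, ⟨u, hu⟩, ⟨c.z * v1, hzv⟩} : Finset V)
        rw [h5, ← Nat.card_eq_fintype_card, hVcard] at this
        omega
      have h3 : y ^ 3 * c.z * (y ^ 3)⁻¹ = c.z := by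
        have e : y ^ 3 * c.z * (y ^ 3)⁻¹ = σ (σ v1) := by rw [hv1, hσ]; simp only [pow_succ, pow_zero, one_mul]; group
        rw [e]
        by_cases hz2 : σ v1 = c.z
        · -- then the third involution is fixed
          exfalso
          refine hne (c.z * v1) (mul_mem hzV hv1V) ?_ ?_
          · intro h'
            exact hv1z (by rw [eq_inv_of_mul_eq_one_right h', inv_eq_of_mul_eq_one_right c.hz])
          · have : σ (c.z * v1) = v1 * c.z := by
              rw [show σ (c.z * v1) = σ c.z * σ v1 by rw [hσ]; group, hz2]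
            rw [this]; exact c.M_comm hv1V.1 hzV.1
        · have hs2 : σ v1 = c.z * v1 := hthree _ hv2V hv21 hz2 hv2v1
          rw [hs2, show σ (c.z * v1) = σ c.z * σ v1 by rw [hσ]; group, hs2, ← hv1, c.M_comm hzV.1 hv1V.1,
            ← mul_assoc, hv1V.2, one_mul]
      have hy3 : y ^ 3 ∈ c.M := by
        obtain ⟨K, -, -, hK⟩ := c.move hxM hxn hx1 hzV.1 c.hz c.hz1
        exact hK _ (mul_inv_eq_iff_eq_mul.1 h3) ((Commute.pow_left (mem_cent.1 hyC : Commute y x) 3).eq)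
      apply hyM
      have hcop : Nat.Coprime 3 (orderOf y) :=
        (Nat.prime_three.coprime_iff_not_dvd).2 (c.not_three_cent hxM hxn hx1 (mem_cent.1 hyC))
      obtain ⟨i, hi⟩ : y ∈ Subgroup.zpowers (y ^ 3) :=
        (mem_powers_iff_mem_zpowers.1 (by
          obtain ⟨j, hj⟩ := exists_pow_eq_self_of_coprime hcop
          exact ⟨j, hj⟩))
      rw [← hi]
      exact zpow_mem hy3 i
    intro g hg
    have hgV : g.1 ∈ V := hg
    exact Subtype.ext (c.M_comm hgV.1 hyM)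
  have hcompl := MonoidHom.ker_transferSylow_isComplement' P hcent
  have hnorm : (MonoidHom.transferSylow P hcent).ker.Normal := MonoidHom.normal_ker _
  generalize (MonoidHom.transferSylow P hcent).ker = K₀ at hcompl hnorm
  set O := K₀.map C.subtype with hO
  have hOcard : Nat.card O = V'.index := by
    rw [Subgroup.card_map_of_injective C.subtype_injective]
    rw [← hPV]
    exact hcompl.index_eq_card.symm
  have hcop : (Nat.card V).Coprime (Nat.card O) := by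
    rw [hVcard, hOcard, show (4 : ℕ) = 2 ^ 2 from rfl]
    exact Nat.Coprime.pow_left _ ((Nat.prime_two.coprime_iff_not_dvd).2 hindex)
  have hVO : V ≤ Subgroup.normalizer (O : Set G) := by
    intro v hv
    rw [Subgroup.mem_normalizer_iff]
    have key : ∀ u ∈ V, ∀ g ∈ O, u * g * u⁻¹ ∈ O := by
      rintro u hu _ ⟨k, hk, rfl⟩
      exact ⟨_, hnorm.conj_mem k hk ⟨u, hVC hu⟩, by simp⟩
    intro g
    refine ⟨key v hv g, fun h => ?_⟩
    have := key v⁻¹ (inv_mem hv) _ h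
    rwa [show v⁻¹ * (v * g * v⁻¹) * v⁻¹⁻¹ = g by group] at this
  have hfix := Cfsg.Agent.Lib.Coprime.fixGen_eq_of_elementary (B := V) (K := O) Nat.prime_two
    (fun a ha b hb => c.M_comm ha.1 hb.1) (fun a ha => by rw [pow_two, ha.2]) (by rw [hVcard]; rfl) hVO hcop
  have hOM : O ≤ c.M := by
    rw [← hfix]
    refine iSup₂_le fun v hv => ?_
    intro g hg
    obtain ⟨hgO, hgv⟩ := hg
    have hgC : g ∈ C := by obtain ⟨g', -, rfl⟩ := hgO; exact g'.2
    obtain ⟨K, -, -, hK⟩ := c.move hxM hxn hx1 hv.1.1 hv.1.2 hv.2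
    exact hK g (mem_cent.1 hgv) (mem_cent.1 hgC)
  intro g hg
  obtain ⟨⟨k, v⟩, e, -⟩ := hcompl.existsUnique ⟨g, mem_cent.2 hg⟩
  have : g = k.1.1 * v.1.1 := (congrArg Subtype.val e).symm
  rw [this]
  exact mul_mem (hOM ⟨k.1, k.2, rfl⟩) (show v.1.1 ∈ V from v.2).1

end Data

end Cfsg.Agent.Lib.ReeTori
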